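import Mathlib
import Groth.Prelude.Def_Versch
import Groth.Prelude.Def_SGA3b

/-!
# Frobenius and Verschiebung compose to multiplication by `p`
-/

universe u

open TensorProduct Coalgebra WithConv

noncomputable section

namespace Groth.Agent.VerschComp

variable {R : Type u} [CommRing R] {A : Type u} [CommRing A] [HopfAlgebra R A]

theorem smulRight_mul [Coalgebra.IsCocomm R A] (f g : WithConv (A →ₗ[R] R)) (e e' : A) :
    toConv (f.ofConv.smulRight e) * toConv (g.ofConv.smulRight e') = toConv ((f * g).ofConv.smulRight (e * e')) := by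
  refine WithConv.ext (LinearMap.ext fun a => ?_)
  show (toConv (f.ofConv.smulRight e) * toConv (g.ofConv.smulRight e')) a = (f * g) a • (e * e')
  rw [LinearMap.convMul_apply, LinearMap.convMul_apply]
  induction comul (R := R) a using TensorProduct.induction_on with
  | zero => simp
  | tmul u v => simp [smul_smul, mul_comm]
  | add u v hu hv => simp only [map_add, hu, hv, add_smul]

theorem smulRight_pow [Coalgebra.IsCocomm R A] (f : WithConv (A →ₗ[R] R)) (e : A) (n : ℕ) :
    toConv (f.ofConv.smulRight e) ^ (n + 1) = toConv ((f ^ (n + 1)).ofConv.smulRight (e ^ (n + 1))) := by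
  induction n with
  | zero => simp
  | succ n ih => rw [pow_succ, ih, smulRight_mul, ← pow_succ, ← pow_succ]

variable (R A) in
theorem exists_dual_basis [Module.Finite R A] [Module.Projective R A] :
    ∃ (n : ℕ) (e : Fin n → A) (x : Fin n → WithConv (A →ₗ[R] R)), ∀ a, ∑ i, x i a • e i = a := by
  obtain ⟨n, f, g, -, -, hfg⟩ := Module.Finite.exists_comp_eq_id_of_projective R A
  refine ⟨n, fun i => f (Pi.single i 1), fun i => toConv (LinearMap.proj i ∘ₗ g), fun a => ?_⟩
  show ∑ i, g a i • f (Pi.single i 1) = a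
  conv_rhs => rw [← LinearMap.id_apply (R := R) a, ← hfg, LinearMap.comp_apply, pi_eq_sum_univ' (g a), map_sum]
  exact Finset.sum_congr rfl fun i _ => by rw [map_smul]

variable [Coalgebra.IsCocomm R A] (p : ℕ) [Fact p.Prime] [CharP R p]

theorem powConv_eq [CharP A p] {n : ℕ} (e : Fin n → A) (x : Fin n → WithConv (A →ₗ[R] R))
    (hex : ∀ a, ∑ i, x i a • e i = a) (a : A) :
    SGA3b.powConv R A p a = ∑ i, (x i ^ p) a • e i ^ p := by
  have hp : p.Prime := Fact.out
  have : Nontrivial A := CharP.nontrivial_of_char_ne_one (R := A) (v := p) hp.ne_one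
  have : Nontrivial (WithConv (A →ₗ[R] A)) := ⟨⟨1, 0, fun h => by
    have h1 := congrArg (fun φ : WithConv (A →ₗ[R] A) => φ 1) h
    simp [LinearMap.convOne_apply] at h1⟩⟩
  have hzero : (p : WithConv (A →ₗ[R] A)) = 0 := by
    rw [← nsmul_one]
    refine WithConv.ext (LinearMap.ext fun b => ?_)
    show p • (1 : WithConv (A →ₗ[R] A)) b = 0
    rw [nsmul_eq_mul, CharP.cast_eq_zero, zero_mul]
  have : CharP (WithConv (A →ₗ[R] A)) p := (CharP.charP_iff_prime_eq_zero hp).2 hzero
  have hid : toConv (LinearMap.id : A →ₗ[R] A) = ∑ i, toConv ((x i).ofConv.smulRight (e i)) := by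
    refine WithConv.ext (LinearMap.ext fun b => ?_)
    rw [WithConv.ofConv_sum, LinearMap.sum_apply]
    exact (hex b).symm
  have h1 : SGA3b.powConv R A p a = (toConv (LinearMap.id : A →ₗ[R] A) ^ p) a := by
    show ((toConv (AlgHom.id R A)) ^ p).ofConv.toLinearMap a = _
    have h2 : toConv ((toConv (AlgHom.id R A)) ^ p).ofConv.toLinearMap = toConv (LinearMap.id : A →ₗ[R] A) ^ p :=
      AlgHom.toLinearMap_convPow (toConv (AlgHom.id R A)) p
    exact congrArg (fun φ : WithConv (A →ₗ[R] A) => φ a) h2
  rw [h1, hid, sum_pow_char]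
  obtain ⟨q, hq⟩ : ∃ q, p = q + 1 := ⟨p - 1, by have := hp.pos; omega⟩
  rw [WithConv.ofConv_sum, LinearMap.sum_apply]
  refine Finset.sum_congr rfl fun i _ => ?_
  rw [hq, smulRight_pow]
  rfl

theorem eq_sum_evTw [Module.Finite R A] [Module.Projective R A] {n : ℕ} (e : Fin n → A)
    (x : Fin n → WithConv (A →ₗ[R] R)) (hex : ∀ a, ∑ i, x i a • e i = a) (w : FrobAlg.BaseChange p R A) :
    w = ∑ i, e i ⊗ₜ[R] Versch.evTw p R A (x i) w := by
  induction w using TensorProduct.induction_on with
  | zero => simp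
  | add w w' hw hw' =>
    simp only [map_add, TensorProduct.tmul_add, Finset.sum_add_distrib, ← hw, ← hw']
  | tmul b s =>
    conv_lhs => rw [← hex b, TensorProduct.sum_tmul]
    refine Finset.sum_congr rfl fun i _ => ?_
    rw [TensorProduct.smul_tmul, Versch.evTw_tmul, Algebra.smul_def]

theorem verschiebung_apply [Module.Finite R A] [Module.Projective R A] {n : ℕ} (e : Fin n → A)
    (x : Fin n → WithConv (A →ₗ[R] R)) (hex : ∀ a, ∑ i, x i a • e i = a)
    (v : A →+* FrobAlg.BaseChange p R A) (hv : Versch.IsVerschiebung p R A v) (a : A) :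
    v a = ∑ i, e i ⊗ₜ[R] FrobAlg.toTwist p R ((x i ^ p) a) := by
  conv_lhs => rw [eq_sum_evTw p e x hex (v a)]
  refine Finset.sum_congr rfl fun i _ => ?_
  rw [(Versch.isVerschiebung_iff p R A v).1 hv a (x i)]

omit [Coalgebra.IsCocomm R A] in
theorem relFrob_tmul [CharP A p] (b : A) (s : FrobAlg.Twist p R) :
    FrobAlg.relFrob p R A (b ⊗ₜ s) = b ^ p * algebraMap R A ((FrobAlg.toTwist p R).symm s) := by
  simp [FrobAlg.relFrob, FrobAlg.frobHom, FrobAlg.inclHom, Algebra.TensorProduct.lift_tmul]
  rfl

theorem relFrob_comp [Module.Finite R A] [Module.Projective R A] [CharP A p]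
    (v : A →+* FrobAlg.BaseChange p R A) (hv : Versch.IsVerschiebung p R A v) (a : A) :
    FrobAlg.relFrob p R A (v a) = SGA3b.powConv R A p a := by
  obtain ⟨n, e, x, hex⟩ := exists_dual_basis R A
  rw [verschiebung_apply p e x hex v hv a, powConv_eq p e x hex a, map_sum]
  refine Finset.sum_congr rfl fun i _ => ?_
  rw [relFrob_tmul, RingEquiv.symm_apply_apply, Algebra.smul_def, mul_comm]

theorem verschiebung_pow [Module.Finite R A] [Module.Projective R A] [CharP A p]
    (v : A →+* FrobAlg.BaseChange p R A) (hv : Versch.IsVerschiebung p R A v) (a : A) :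
    v (a ^ p) = (SGA3b.powConv R A p a) ⊗ₜ[R] (1 : FrobAlg.Twist p R) := by
  have hp : p.Prime := Fact.out
  obtain ⟨n, e, x, hex⟩ := exists_dual_basis R A
  rw [map_pow, verschiebung_apply p e x hex v hv a, powConv_eq p e x hex a, TensorProduct.sum_tmul]
  obtain ⟨q, hq⟩ : ∃ q, p = q + 1 := ⟨p - 1, by have := hp.pos; omega⟩
  have hpow : ∀ (s : Finset (Fin n)) (f : Fin n → FrobAlg.BaseChange p R A),
      (∑ i ∈ s, f i) ^ p = ∑ i ∈ s, f i ^ p := by
    intro s f
    have h0 : (p : FrobAlg.BaseChange p R A) = 0 := by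
      rw [← map_natCast (algebraMap R (FrobAlg.BaseChange p R A)) p, CharP.cast_eq_zero, map_zero]
    induction s using Finset.induction_on with
    | empty => simp [zero_pow hp.ne_zero]
    | insert i s his ih =>
      rw [Finset.sum_insert his, Finset.sum_insert his]
      obtain ⟨r, hr⟩ := (Commute.all (f i) (∑ j ∈ s, f j)).exists_add_pow_prime_eq hp
      rw [hr, h0, ih]
      ring
  rw [hpow]
  refine Finset.sum_congr rfl fun i _ => ?_
  rw [Algebra.TensorProduct.tmul_pow, TensorProduct.smul_tmul, Algebra.smul_def, mul_one,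
    FrobAlg.algebraMap_twist, map_pow]

theorem conv_pow_one (x : WithConv (A →ₗ[R] R)) (n : ℕ) : (x ^ n) (1 : A) = x (1 : A) ^ n := by
  induction n with
  | zero => simp [LinearMap.convOne_apply]
  | succ n ih =>
    rw [pow_succ, pow_succ, LinearMap.convMul_apply, Bialgebra.comul_one, Algebra.TensorProduct.one_def,
      TensorProduct.map_tmul, LinearMap.mul'_apply, ih]

theorem verschiebung_algebraMap [Module.Finite R A] [Module.Projective R A]
    (v : A →+* FrobAlg.BaseChange p R A) (hv : Versch.IsVerschiebung p R A v) (r : R) :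
    v (algebraMap R A r) = (1 : A) ⊗ₜ[R] FrobAlg.toTwist p R r := by
  refine Versch.evTw_injective p R A fun x => ?_
  rw [(Versch.isVerschiebung_iff p R A v).1 hv, Versch.evTw_tmul, FrobAlg.algebraMap_twist, ← map_mul,
    Algebra.algebraMap_eq_smul_one, CartDual.coe_apply, map_smul, smul_eq_mul]
  congr 1
  rw [mul_comm]
  exact congrArg (· * r) (conv_pow_one x p)

omit [Coalgebra.IsCocomm R A] in
/-- Restriction of points of a base change. -/
def resPoints (S : Type u) [CommRing S] [Algebra R S] :
    WithConv (S ⊗[R] A →ₐ[S] S ⊗[R] A) →* WithConv (A →ₐ[R] S ⊗[R] A) where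
  toFun f := toConv ((f.ofConv.restrictScalars R).comp Algebra.TensorProduct.includeRight)
  map_one' := by
    refine WithConv.ext (AlgHom.ext fun a => ?_)
    simp [AlgHom.convOne_def, Algebra.algebraMap_eq_smul_one, IsScalarTower.smul_assoc]
  map_mul' f g := by
    refine WithConv.ext (AlgHom.ext fun a => ?_)
    simp only [AlgHom.comp_apply, AlgHom.restrictScalars_apply,
      Algebra.TensorProduct.includeRight_apply]
    change (f * g) ((1 : S) ⊗ₜ[R] a) = (toConv ((f.ofConv.restrictScalars R).comp
      Algebra.TensorProduct.includeRight) * toConv ((g.ofConv.restrictScalars R).comp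
      Algebra.TensorProduct.includeRight)) a
    rw [AlgHom.convMul_apply, AlgHom.convMul_apply, TensorProduct.comul_tmul]
    generalize comul (R := R) a = t
    induction t using TensorProduct.induction_on with
    | zero => simp
    | tmul x y => simp [TensorProduct.AlgebraTensorModule.tensorTensorTensorComm_tmul]
    | add x y hx hy => simp only [tmul_add, map_add, hx, hy]

omit [Coalgebra.IsCocomm R A] in
theorem powConv_one_tmul (S : Type u) [CommRing S] [Algebra R S] (n : ℕ) (a : A) :
    SGA3b.powConv S (S ⊗[R] A) n ((1 : S) ⊗ₜ[R] a) = (1 : S) ⊗ₜ[R] SGA3b.powConv R A n a := by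
  have h := map_pow (resPoints (R := R) (A := A) S) (toConv (AlgHom.id S (S ⊗[R] A))) n
  have h2 : ∀ m, (resPoints (R := R) (A := A) S (toConv (AlgHom.id S (S ⊗[R] A)))) ^ m =
      toConv ((Algebra.TensorProduct.includeRight : A →ₐ[R] S ⊗[R] A).comp
        ((toConv (AlgHom.id R A)) ^ m).ofConv) := by
    intro m
    induction m with
    | zero =>
      refine WithConv.ext (AlgHom.ext fun b => ?_)
      simp [AlgHom.convOne_def]
    | succ m ih =>
      rw [pow_succ, ih, pow_succ (toConv (AlgHom.id R A))]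
      rw [AlgHom.comp_convMul_distrib]
      rfl
  rw [h2] at h
  exact congrArg (fun φ : WithConv (A →ₐ[R] S ⊗[R] A) => φ a) h

end Groth.Agent.VerschComp
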