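import Mathlib
import Groth.Agent.CotT.Smooth

/-!
# Dimension and smoothness of algebras with free differentials over an algebraically closed field
-/

universe u

open TensorProduct IsLocalRing

noncomputable section

namespace Groth.Agent.HopfSmDim

/-- At a rational point the cotangent space is the fibre of the differentials. -/
theorem finrank_cotangentSpace {k P : Type u} [Field k] [CommRing P] [IsLocalRing P] [Algebra k P]
    (h : CotT.HasResidue k P) [Module.Free P (Ω[P⁄k])] :
    Module.finrank (ResidueField P) (CotangentSpace P) = Module.finrank P (Ω[P⁄k]) := by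
  let f : maximalIdeal P →ₗ[P] ResidueField P ⊗[P] Ω[P⁄k] :=
    { toFun := fun x => 1 ⊗ₜ KaehlerDifferential.D k P x
      map_add' := fun x y => by simp [tmul_add]
      map_smul' := fun p x => by
        show (1 : ResidueField P) ⊗ₜ[P] KaehlerDifferential.D k P (p * x.1) = p • _
        rw [Derivation.leibniz, tmul_add]
        have h0 : (1 : ResidueField P) ⊗ₜ[P] ((x : P) • KaehlerDifferential.D k P p) = 0 := by
          rw [← smul_tmul, Algebra.smul_def, mul_one, ResidueField.algebraMap_eq,
            (residue_eq_zero_iff _).2 x.2, zero_tmul]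
        rw [h0, add_zero, tmul_smul] }
  have hf : ∀ x y : maximalIdeal P, f (x * y) = 0 := fun x y => by
    show (1 : ResidueField P) ⊗ₜ[P] KaehlerDifferential.D k P ((x : P) * y) = 0
    rw [CotT.one_tmul_zero_iff residue_surjective, ResidueField.algebraMap_eq, ker_residue]
    exact CotT.D_mem_of_sq (by rw [pow_two]; exact Ideal.mul_mem_mul x.2 y.2)
  let g := LinearMap.extendScalarsOfSurjective (S := ResidueField P)
    (show Function.Surjective (algebraMap P (ResidueField P)) from residue_surjective)
    (Ideal.Cotangent.lift f hf : CotangentSpace P →ₗ[P] _)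
  have hinj : Function.Injective g := by
    rw [injective_iff_map_eq_zero]
    intro z hz
    obtain ⟨x, rfl⟩ := Ideal.toCotangent_surjective _ z
    have hz' : f x = 0 := by rw [← Ideal.Cotangent.lift_toCotangent f hf x]; exact hz
    rw [Ideal.toCotangent_eq_zero]
    refine CotT.mem_sq_of_D h x.2 ?_
    have := (CotT.one_tmul_zero_iff residue_surjective _).1 hz'
    rwa [ResidueField.algebraMap_eq, ker_residue] at this
  have hsurj : Function.Surjective g := by
    intro y
    induction y using TensorProduct.induction_on with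
    | zero => exact ⟨0, map_zero _⟩
    | add a b ha hb =>
      obtain ⟨x, rfl⟩ := ha
      obtain ⟨y, rfl⟩ := hb
      exact ⟨x + y, map_add _ _ _⟩
    | tmul c w =>
      suffices hs : ∃ x, g x = 1 ⊗ₜ w by
        obtain ⟨x, hx⟩ := hs
        refine ⟨c • x, ?_⟩
        rw [map_smul, hx, smul_tmul', smul_eq_mul, mul_one]
      have hw : w ∈ Submodule.span P (Set.range (KaehlerDifferential.D k P)) :=
        (KaehlerDifferential.span_range_derivation k P).symm ▸ Submodule.mem_top
      induction hw using Submodule.span_induction with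
      | mem w hw =>
        obtain ⟨p, rfl⟩ := hw
        obtain ⟨a, ha⟩ := CotT.exists_const h p
        refine ⟨Ideal.toCotangent _ ⟨_, ha⟩, ?_⟩
        show Ideal.Cotangent.lift f hf _ = _
        rw [Ideal.Cotangent.lift_toCotangent]
        show (1 : ResidueField P) ⊗ₜ[P] KaehlerDifferential.D k P (p - algebraMap k P a) = _
        rw [map_sub, Derivation.map_algebraMap, sub_zero]
      | zero => exact ⟨0, by simp⟩
      | add a b _ _ ha hb =>
        obtain ⟨x, hx⟩ := ha
        obtain ⟨y, hy⟩ := hb
        exact ⟨x + y, by rw [map_add, hx, hy, tmul_add]⟩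
      | smul p a _ ha =>
        obtain ⟨x, hx⟩ := ha
        refine ⟨algebraMap P (ResidueField P) p • x, ?_⟩
        rw [map_smul, hx, algebraMap_smul, tmul_smul]
  rw [(LinearEquiv.ofBijective g ⟨hinj, hsurj⟩).finrank_eq, Module.finrank_baseChange]

section Affine

variable {K B : Type u} [Field K] [IsAlgClosed K] [CommRing B] [Algebra K B] [Algebra.FiniteType K B]

theorem hasResidue (m : Ideal B) [m.IsMaximal] : CotT.HasResidue K (Localization.AtPrime m) := by
  let _ := Ideal.Quotient.field m
  have : Module.Finite K (B ⧸ m) := finite_of_finite_type_of_isJacobsonRing _ _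
  have hres : ∀ b : B, ∃ c : K, b - algebraMap K B c ∈ m := fun b => by
    obtain ⟨c, hc⟩ := (IsAlgClosed.algebraMap_bijective_of_isIntegral (k := K) (K := B ⧸ m)).2 (Ideal.Quotient.mk m b)
    exact ⟨c, Ideal.Quotient.eq.1 hc.symm⟩
  intro y
  obtain ⟨x, rfl⟩ := residue_surjective y
  obtain ⟨a, s, rfl⟩ := IsLocalization.exists_mk'_eq m.primeCompl x
  obtain ⟨ca, hca⟩ := hres a
  obtain ⟨cs, hcs⟩ := hres (s : B)
  have hcs0 : cs ≠ 0 := fun h => s.2 (by simpa [h] using hcs)
  refine ⟨ca / cs, ?_⟩
  rw [IsScalarTower.algebraMap_apply K (Localization.AtPrime m) (ResidueField _)]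
  refine ((Ideal.Quotient.eq).2 ?_).symm
  rw [IsScalarTower.algebraMap_apply K B (Localization.AtPrime m)]
  rw [← Ideal.unit_mul_mem_iff_mem _ (IsLocalization.map_units (Localization.AtPrime m) s), mul_sub,
    IsLocalization.mk'_spec'_mk, ← map_mul, ← map_sub,
    IsLocalization.AtPrime.to_map_mem_maximal_iff (Localization.AtPrime m) m]
  have e : a - (s : B) * algebraMap K B (ca / cs) =
      (a - algebraMap K B ca) - ((s : B) - algebraMap K B cs) * algebraMap K B (ca / cs) := by
    rw [sub_mul, ← map_mul, mul_div_cancel₀ _ hcs0]; ring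
  rw [e]
  exact sub_mem hca (Ideal.mul_mem_right _ _ hcs)

variable (d : ℕ) [Module.Free B (Ω[B⁄K])]

theorem spanFinrank_eq (hd : Module.finrank B (Ω[B⁄K]) = d) (m : Ideal B) [m.IsMaximal] :
    (maximalIdeal (Localization.AtPrime m)).spanFinrank = d := by
  have : IsNoetherianRing B := Algebra.FiniteType.isNoetherianRing K B
  have : Algebra.FormallyEtale B (Localization.AtPrime m) := .of_isLocalization m.primeCompl
  let e := KaehlerDifferential.tensorKaehlerEquivOfFormallyEtale K B (Localization.AtPrime m)
  have : Module.Free (Localization.AtPrime m) (Ω[Localization.AtPrime m⁄K]) := .of_equiv e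
  have : Nontrivial B := nontrivial_of_ne (0 : B) 1 fun h =>
    ‹m.IsMaximal›.ne_top ((Ideal.eq_top_iff_one m).2 (h ▸ m.zero_mem))
  rw [spanFinrank_maximalIdeal_eq_finrank_cotangentSpace, finrank_cotangentSpace (hasResidue (K := K) m),
    ← e.finrank_eq, Module.finrank_baseChange, hd]

theorem height_le (hd : Module.finrank B (Ω[B⁄K]) = d) (m : Ideal B) [m.IsMaximal] :
    (m.height : WithBot ℕ∞) ≤ (d : WithBot ℕ∞) ∧
      (IsRegularLocalRing (Localization.AtPrime m) ↔ (m.height : WithBot ℕ∞) = (d : WithBot ℕ∞)) := by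
  have : IsNoetherianRing B := Algebra.FiniteType.isNoetherianRing K B
  have he := spanFinrank_eq (K := K) d hd m
  rw [← IsLocalization.AtPrime.ringKrullDim_eq_height m (Localization.AtPrime m)]
  refine ⟨?_, ?_⟩
  · have := ringKrullDim_le_spanFinrank_maximalIdeal (Localization.AtPrime m)
    rwa [he] at this
  · rw [isRegularLocalRing_iff, he]
    exact eq_comm

theorem dim_le [Nontrivial B] (hd : Module.finrank B (Ω[B⁄K]) = d) : ringKrullDim B ≤ (d : WithBot ℕ∞) := by
  rw [← Ideal.sup_isMaximal_height_eq_ringKrullDim]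
  exact WithBot.coe_le_coe.2 (iSup₂_le fun m hm => WithBot.coe_le_coe.1 (height_le (K := K) d hd m).1)

theorem formallySmooth_iff_dim [Nontrivial B] (hd : Module.finrank B (Ω[B⁄K]) = d)
    (heq : ∀ (M : Ideal B) [M.IsMaximal], (M.height : WithBot ℕ∞) = ringKrullDim B) :
    Algebra.FormallySmooth K B ↔ ringKrullDim B = (d : WithBot ℕ∞) := by
  constructor
  · intro _
    obtain ⟨m, hm⟩ := Ideal.exists_maximal B
    rw [← heq m]
    exact (height_le (K := K) d hd m).2.1 (CotT.regular_of_formallySmooth (k := K) m)
  · intro h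
    exact CotT.formallySmooth_of_maximal fun m hm => (height_le (K := K) d hd m).2.2 ((heq m).trans h)

end Affine

end Groth.Agent.HopfSmDim
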