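import Mathlib
import Groth.Agent.UnipFilt.Basic
import Groth.Agent.S7950

/-!
# Simple finite connected group schemes
-/

universe u

open TensorProduct Coalgebra

noncomputable section

namespace Groth.Agent.HopfSimple

variable {k : Type u} [Field k] {A : Type u} [CommRing A] [HopfAlgebra k A]

theorem isHopfIdeal_span (B : Subalgebra k A) (hB : FlatSub.IsSubHopf k B) :
    (Ideal.span {b : A | b ∈ B ∧ counit (R := k) b = 0}).IsHopfIdeal k := by
  set I := Ideal.span {b : A | b ∈ B ∧ counit (R := k) b = 0} with hI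
  have hε : I ≤ RingHom.ker (Bialgebra.counitAlgHom k A) := Ideal.span_le.2 fun b hb => hb.2
  have hq : ∀ b ∈ B, Ideal.Quotient.mk I b = algebraMap k (A ⧸ I) (counit (R := k) b) := fun b hb => by
    rw [← Ideal.Quotient.mk_algebraMap, Ideal.Quotient.eq]
    exact Ideal.subset_span ⟨sub_mem hb (Subalgebra.algebraMap_mem B _), by simp⟩
  let ψ : A →ₐ[k] (A ⧸ I) ⊗[k] (A ⧸ I) :=
    (Algebra.TensorProduct.map (Ideal.Quotient.mkₐ k I) (Ideal.Quotient.mkₐ k I)).comp (Bialgebra.comulAlgHom k A)
  have hψ : I ≤ RingHom.ker ψ := by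
    refine Ideal.span_le.2 ?_
    rintro b ⟨hb, h0⟩
    obtain ⟨z, hz⟩ := hB.1 b hb
    show ψ b = 0
    have key : ∀ z : B ⊗[k] B, Algebra.TensorProduct.map (Ideal.Quotient.mkₐ k I) (Ideal.Quotient.mkₐ k I)
        (TensorProduct.map B.val.toLinearMap B.val.toLinearMap z) =
        algebraMap k _ (counit (R := k) (TensorProduct.rid k A ((counit (R := k)).lTensor A
          (TensorProduct.map B.val.toLinearMap B.val.toLinearMap z)))) := by
      intro z
      induction z using TensorProduct.induction_on with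
      | zero => simp
      | add z w hz hw => simp only [map_add, hz, hw]
      | tmul u v =>
        show Ideal.Quotient.mk I (u : A) ⊗ₜ[k] Ideal.Quotient.mk I (v : A) = _
        rw [hq _ u.2, hq _ v.2]
        simp [Algebra.algebraMap_eq_smul_one, TensorProduct.smul_tmul', Algebra.TensorProduct.one_def, smul_smul, mul_comm]
    show Algebra.TensorProduct.map (Ideal.Quotient.mkₐ k I) (Ideal.Quotient.mkₐ k I) (comul (R := k) b) = 0
    rw [← hz, key, hz, Coalgebra.lTensor_counit_comul]
    simp [h0]
  refine { toIsCoideal := ⟨fun x hx => hε hx, fun x hx => hψ hx⟩, antipode_mem := ?_ }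
  have hS : I ≤ I.comap (HopfAlgebra.antipodeAlgHom k A) := Ideal.span_le.2 fun b ⟨hb, h0⟩ =>
    Ideal.subset_span ⟨hB.2 b hb, by rw [HopfAlgebra.antipodeAlgHom_apply, HopfAlgebra.counit_antipode]; exact h0⟩
  exact fun x hx => hS hx

theorem mem_of_simple (hsimple : ∀ I : Ideal A, I.IsHopfIdeal k → I = ⊥ ∨ I = RingHom.ker (Bialgebra.counitAlgHom k A))
    (B : Subalgebra k A) (hB : FlatSub.IsSubHopf k B) {x : A} (hx : x ∈ B)
    (hne : x ≠ algebraMap k A (counit (R := k) x)) (a : A) : a ∈ B := by
  rcases hsimple _ (isHopfIdeal_span B hB) with h | h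
  · have hm : x - algebraMap k A (counit (R := k) x) ∈ Ideal.span {b : A | b ∈ B ∧ counit (R := k) b = 0} :=
      Ideal.subset_span ⟨sub_mem hx (Subalgebra.algebraMap_mem B _), by simp⟩
    rw [h, Submodule.mem_bot, sub_eq_zero] at hm
    exact absurd hm hne
  · refine UnipFilt.coinv_mem hB (RingHom.ker (Bialgebra.counitAlgHom k A)) h.ge ?_
    let π : A →ₗ[k] (RingHom.ker (Bialgebra.counitAlgHom k A)).restrictScalars k :=
      (LinearMap.id - Algebra.linearMap k A ∘ₗ counit).codRestrict _ fun a => by
        simp [RingHom.mem_ker]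
    refine ⟨π.lTensor A (comul a), ?_⟩
    rw [← LinearMap.lTensor_comp_apply,
      show ((RingHom.ker (Bialgebra.counitAlgHom k A)).restrictScalars k).subtype ∘ₗ π =
        LinearMap.id - Algebra.linearMap k A ∘ₗ counit from rfl, LinearMap.lTensor_sub,
      LinearMap.sub_apply, LinearMap.lTensor_id, LinearMap.id_apply, LinearMap.lTensor_comp_apply,
      Coalgebra.lTensor_counit_comul]
    simp

theorem isSubHopf_adjoin (x : A)
    (hΔ : comul (R := k) x ∈ LinearMap.range (TensorProduct.map (Algebra.adjoin k {x}).val.toLinearMap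
      (Algebra.adjoin k {x}).val.toLinearMap))
    (hS : HopfAlgebra.antipode k x ∈ Algebra.adjoin k {x}) : FlatSub.IsSubHopf k (Algebra.adjoin k {x}) := by
  set B := Algebra.adjoin k {x}
  constructor
  · intro b hb
    have hle : B ≤ Subalgebra.comap (Bialgebra.comulAlgHom k A) (Algebra.TensorProduct.map B.val B.val).range := by
      refine Algebra.adjoin_le ?_
      rintro _ rfl
      exact hΔ
    exact hle hb
  · intro b hb
    have hle : B ≤ Subalgebra.comap (HopfAlgebra.antipodeAlgHom k A) B := by
      refine Algebra.adjoin_le ?_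
      rintro _ rfl
      exact hS
    exact hle hb

theorem eq_of_forall_functional [Module.Finite k A] {z w : A ⊗[k] A}
    (h : ∀ f g : A →ₗ[k] k, TensorProduct.lid k k (TensorProduct.map f g z) = TensorProduct.lid k k (TensorProduct.map f g w)) :
    z = w := by
  let b := Module.finBasis k A
  have hrep : ∀ (z : A ⊗[k] A) i j,
      (b.tensorProduct b).repr z (i, j) = TensorProduct.lid k k (TensorProduct.map (b.coord i) (b.coord j) z) := by
    intro z i j
    induction z using TensorProduct.induction_on with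
    | zero => simp
    | add z w hz hw => simp only [map_add, Finsupp.add_apply, hz, hw]
    | tmul s t =>
      rw [Module.Basis.tensorProduct_repr_tmul_apply]
      simp [mul_comm]
  exact (b.tensorProduct b).repr.injective (Finsupp.ext fun ⟨i, j⟩ => by rw [hrep, hrep, h])

theorem conv_apply (f g : WithConv (A →ₗ[k] k)) (a : A) :
    (f * g) a = TensorProduct.lid k k (TensorProduct.map f.ofConv g.ofConv (comul a)) := by
  rw [LinearMap.convMul_apply]
  induction comul (R := k) a using TensorProduct.induction_on with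
  | zero => simp
  | tmul u v => simp
  | add u v hu hv => simp only [map_add, hu, hv]

theorem exists_primitive [Module.Finite k A] [Coalgebra.IsCocomm k A] (hdual : IsLocalRing (WithConv (A →ₗ[k] k)))
    (hA : 1 < Module.finrank k A) :
    ∃ x : A, x ≠ 0 ∧ counit (R := k) x = 0 ∧ comul x = x ⊗ₜ[k] (1 : A) + (1 : A) ⊗ₜ[k] x := by
  let D := WithConv (A →ₗ[k] k)
  have : Module.Finite k D := Module.Finite.equiv (WithConv.linearEquiv k (A →ₗ[k] k)).symm
  have : IsNoetherianRing D := isNoetherian_of_tower k inferInstance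
  have hfr : Module.finrank k D = Module.finrank k A :=
    ((WithConv.linearEquiv k (A →ₗ[k] k)).finrank_eq).trans Subspace.dual_finrank_eq
  let ev : D →ₐ[k] k := AlgHom.ofLinearMap
    ((LinearMap.applyₗ (1 : A)) ∘ₗ (WithConv.linearEquiv k (A →ₗ[k] k)).toLinearMap)
    (by show (1 : D) (1 : A) = 1; simp [LinearMap.convOne_apply])
    (fun f g => by
      show (f * g) (1 : A) = f (1 : A) * g (1 : A)
      rw [conv_apply, Bialgebra.comul_one, Algebra.TensorProduct.one_def]
      simp)
  have hev : Function.Surjective ev := fun c => ⟨algebraMap k D c, AlgHom.commutes ev c⟩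
  set M := RingHom.ker ev with hM
  have hMmax : M = IsLocalRing.maximalIdeal D :=
    IsLocalRing.eq_maximalIdeal (RingHom.ker_isMaximal_of_surjective ev hev)
  obtain ⟨f, hf, hf2⟩ : ∃ f ∈ M, f ∉ M ^ 2 := by
    by_contra h
    push Not at h
    have hMbot : M = ⊥ := by
      refine Submodule.eq_bot_of_le_smul_of_le_jacobson_bot M M (IsNoetherian.noetherian M) ?_ ?_
      · rw [smul_eq_mul, ← pow_two]; exact h
      · rw [IsLocalRing.jacobson_eq_maximalIdeal _ bot_ne_top, hMmax]
    have hinj : Function.Injective ev.toLinearMap := (RingHom.injective_iff_ker_eq_bot ev.toRingHom).2 hMbot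
    have h1 := LinearMap.finrank_le_finrank_of_injective hinj
    rw [hfr, Module.finrank_self] at h1
    omega
  let N : Submodule k D := Submodule.span k {1} ⊔ (M ^ 2).restrictScalars k
  have hfN : f ∉ N := by
    intro h
    obtain ⟨a, ha, b, hb, hab⟩ := Submodule.mem_sup.1 h
    obtain ⟨c, rfl⟩ := Submodule.mem_span_singleton.1 ha
    have h1 : ev (c • (1 : D) + b) = 0 := by rw [hab]; exact hf
    rw [map_add, map_smul, map_one, show ev b = 0 from Ideal.pow_le_self two_ne_zero hb, add_zero, smul_eq_mul, mul_one] at h1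
    rw [h1, zero_smul, zero_add] at hab
    exact hf2 (hab ▸ hb)
  obtain ⟨δ, hδf, hδN⟩ := Submodule.exists_dual_map_eq_bot_of_notMem hfN inferInstance
  have hδ0 : ∀ z ∈ N, δ z = 0 := fun z hz => (Submodule.eq_bot_iff _).1 hδN _ ⟨z, hz, rfl⟩
  let x : A := (Module.evalEquiv k A).symm (δ ∘ₗ (WithConv.linearEquiv k (A →ₗ[k] k)).symm.toLinearMap)
  have hx : ∀ g : D, g x = δ g := fun g => by
    show g.ofConv x = _
    rw [Module.apply_evalEquiv_symm_apply]
    rfl
  have hleib : ∀ g h : D, δ (g * h) = ev g * δ h + ev h * δ g := by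
    intro g h
    have e : g * h = (g - algebraMap k D (ev g)) * (h - algebraMap k D (ev h)) + ev g • h + ev h • g
        - (ev g * ev h) • (1 : D) := by
      simp only [Algebra.smul_def, map_mul, mul_one]
      ring
    have h1 : δ ((g - algebraMap k D (ev g)) * (h - algebraMap k D (ev h))) = 0 := by
      refine hδ0 _ (Submodule.mem_sup_right ?_)
      rw [Submodule.restrictScalars_mem, pow_two]
      exact Ideal.mul_mem_mul (by simp [hM, RingHom.mem_ker]) (by simp [hM, RingHom.mem_ker])
    have h2 : δ (1 : D) = 0 := hδ0 _ (Submodule.mem_sup_left (Submodule.mem_span_singleton_self _))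
    rw [e, map_sub, map_add, map_add, h1, map_smul, map_smul, map_smul, h2]
    simp [smul_eq_mul]
  have hεx : counit (R := k) x = 0 := by
    have h1 : (1 : D) x = 0 := by rw [hx]; exact hδ0 _ (Submodule.mem_sup_left (Submodule.mem_span_singleton_self _))
    simpa [LinearMap.convOne_apply] using h1
  refine ⟨x, fun h0 => hδf ?_, hεx, eq_of_forall_functional fun f' g' => ?_⟩
  · rw [← hx, h0]; exact map_zero f.ofConv
  · have h1 := conv_apply (WithConv.toConv f') (WithConv.toConv g') x
    rw [hx, hleib, ← hx, ← hx] at h1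
    rw [← h1]
    show f' (1 : A) * g' x + g' (1 : A) * f' x = _
    simp [mul_comm, add_comm]

theorem exists_groupLike [IsAlgClosed k] [Module.Finite k A] [Coalgebra.IsCocomm k A]
    (hdual : IsReduced (WithConv (A →ₗ[k] k))) (hA : 1 < Module.finrank k A)
    (hchar : ∀ (E : Type u) [CommRing E] [Algebra k E] [Module.Finite k E] [IsReduced E] (ω : E →ₗ[k] k),
      ω ∈ Submodule.span k (Set.range (AlgHom.toLinearMap : (E →ₐ[k] k) → E →ₗ[k] k))) :
    ∃ g : A, IsGroupLikeElem k g ∧ g ≠ 1 := by
  by_contra hno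
  push Not at hno
  let D := WithConv (A →ₗ[k] k)
  let eD := WithConv.linearEquiv k (A →ₗ[k] k)
  have : Module.Finite k D := Module.Finite.equiv eD.symm
  have hev : ∀ χ : D →ₐ[k] k, ∀ f : D, f (1 : A) = χ f := by
    intro χ
    let g : A := (Module.evalEquiv k A).symm (χ.toLinearMap ∘ₗ eD.symm.toLinearMap)
    have hg : ∀ f : D, f g = χ f := fun f => by
      show f.ofConv g = _
      rw [Module.apply_evalEquiv_symm_apply]
      rfl
    have hgl : IsGroupLikeElem k g := by
      refine ⟨?_, eq_of_forall_functional fun f' g' => ?_⟩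
      · have h1 : (1 : D) g = 1 := by rw [hg, map_one]
        simpa [LinearMap.convOne_apply] using h1
      · have h1 := conv_apply (WithConv.toConv f') (WithConv.toConv g') g
        rw [hg, map_mul, ← hg, ← hg] at h1
        rw [← h1]
        simp
    intro f
    rw [← hg, hno g hgl]
  have hall : ∀ a : A, a ∈ Submodule.span k ({1} : Set A) := by
    intro a
    have hω := hchar D ((Module.Dual.eval k A a) ∘ₗ eD.toLinearMap)
    obtain ⟨c, hc⟩ : ∃ c : k, ∀ f : D, f a = c * f (1 : A) := by
      have key : ∀ ω ∈ Submodule.span k (Set.range (AlgHom.toLinearMap : (D →ₐ[k] k) → D →ₗ[k] k)),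
          ∃ c : k, ∀ f : D, ω f = c * f (1 : A) := by
        intro ω hω
        induction hω using Submodule.span_induction with
        | mem ω hω =>
          obtain ⟨χ, rfl⟩ := hω
          exact ⟨1, fun f => by rw [one_mul, hev χ]; rfl⟩
        | zero => exact ⟨0, fun f => by simp⟩
        | add a b _ _ ha hb =>
          obtain ⟨c, hc⟩ := ha; obtain ⟨c', hc'⟩ := hb
          exact ⟨c + c', fun f => by simp [hc, hc', add_mul]⟩
        | smul r a _ ha =>
          obtain ⟨c, hc⟩ := ha
          exact ⟨r * c, fun f => by simp [hc, mul_assoc]⟩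
      exact key _ hω
    refine Submodule.mem_span_singleton.2 ⟨c, (Module.forall_dual_apply_eq_zero_iff k _).1 (fun f => ?_) |> sub_eq_zero.1⟩
    rw [map_sub, map_smul, smul_eq_mul]
    exact sub_eq_zero.2 (hc (WithConv.toConv f)).symm
  have := finrank_le_one (1 : A) fun a => Submodule.mem_span_singleton.1 (hall a)
  omega

theorem finrank_eq_p [Module.Finite k A] [IsLocalRing A] (p : ℕ) [Fact p.Prime] [CharP k p]
    (hA : 1 < Module.finrank k A) (y : A) (hy : y ^ p = 0) (htop : ∀ a, a ∈ Algebra.adjoin k {y}) :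
    Module.finrank k A = p ∧ LinearIndependent k fun i : Fin p => y ^ (i : ℕ) := by
  have hspan : ⊤ ≤ Submodule.span k (Set.range fun i : Fin p => y ^ (i : ℕ)) := by
    intro a _
    obtain ⟨q, hq⟩ := Algebra.adjoin_singleton_eq_range_aeval k y ▸ htop a
    rw [← hq, AlgHom.toRingHom_eq_coe, RingHom.coe_coe, q.as_sum_range_C_mul_X_pow, map_sum]
    refine sum_mem fun i _ => ?_
    rw [map_mul, map_pow, Polynomial.aeval_C, Polynomial.aeval_X, ← Algebra.smul_def]
    rcases lt_or_ge i p with hi | hi
    · exact Submodule.smul_mem _ _ (Submodule.subset_span ⟨⟨i, hi⟩, rfl⟩)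
    · rw [show i = p + (i - p) by omega, pow_add, hy, zero_mul, smul_zero]; exact zero_mem _
  have hle : Module.finrank k A ≤ p := by
    rw [← finrank_top k A, ← top_le_iff.1 hspan]
    exact (finrank_range_le_card _).trans_eq (Fintype.card_fin p)
  obtain ⟨n, hn⟩ := Groth.Agent.S7950.result k A
  rw [ringExpChar.eq k p] at hn
  have hn1 : n = 1 := by
    rcases n with _ | _ | n
    · simp [hn] at hA
    · rfl
    · rw [hn] at hle
      have hp := (Fact.out : p.Prime).one_lt
      have : p ^ 1 < p ^ (n + 1 + 1) := Nat.pow_lt_pow_right hp (by omega)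
      rw [pow_one] at this
      omega
  have hfr : Module.finrank k A = p := by rw [hn, hn1, pow_one]
  exact ⟨hfr, linearIndependent_of_top_le_span_of_card_eq_finrank hspan (by rw [Fintype.card_fin, hfr])⟩

theorem eq_zero_of_eq_mul {u r : A} (hu : IsNilpotent u) {p : ℕ} (hp : 1 < p) (h : u = u ^ p * r) : u = 0 := by
  have hn : IsNilpotent (u ^ (p - 1) * r) := (Commute.all (u ^ (p - 1)) r).isNilpotent_mul_right (hu.pow_of_pos (show p - 1 ≠ 0 by omega))
  have h1 : u * (1 - u ^ (p - 1) * r) = 0 := by
    rw [mul_sub, mul_one, ← mul_assoc, ← pow_succ', show p - 1 + 1 = p by omega, ← h, sub_self]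
  exact (hn.isUnit_one_sub).mul_left_eq_zero.1 h1

end Groth.Agent.HopfSimple
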