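import Mathlib
import Groth.Agent.HopfSmDim.Local
import Groth.Agent.HopfOmega.Basic
import Groth.Agent.HopfRedSq.Basic
import Groth.Agent.DimField.Ring

/-!
# Dimension and smoothness of algebraic groups through the cotangent space at the unit
-/

universe u v

open TensorProduct Groth.Agent

noncomputable section

namespace Groth.Agent.HopfSmDim

variable (k : Type u) (A : Type v) [Field k] [CommRing A] [HopfAlgebra k A]

theorem sub_counit_mem (a : A) :
    a - algebraMap k A (Bialgebra.counitAlgHom k A a) ∈ RingHom.ker (Bialgebra.counitAlgHom k A) := by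
  simp [RingHom.mem_ker]

/-- `b ↦ [b - ε b]` -/
def cotClass : A →ₗ[k] (RingHom.ker (Bialgebra.counitAlgHom k A)).Cotangent :=
  ((RingHom.ker (Bialgebra.counitAlgHom k A)).toCotangent.restrictScalars k) ∘ₗ
    ((LinearMap.id - (Algebra.linearMap k A) ∘ₗ (Bialgebra.counitAlgHom k A).toLinearMap).codRestrict
      ((RingHom.ker (Bialgebra.counitAlgHom k A)).restrictScalars k) (fun a => sub_counit_mem k A a))

theorem cotClass_apply (a : A) : cotClass k A a =
    (RingHom.ker (Bialgebra.counitAlgHom k A)).toCotangent ⟨_, sub_counit_mem k A a⟩ := rfl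

/-- `b ↦ [b - ε b]` as a derivation. -/
def cotDer : Derivation k A (RingHom.ker (Bialgebra.counitAlgHom k A)).Cotangent where
  toLinearMap := cotClass k A
  map_one_eq_zero' := by
    rw [cotClass_apply, Ideal.toCotangent_eq_zero]
    simp
  leibniz' := fun x y => by
    rw [cotClass_apply, cotClass_apply, cotClass_apply, ← map_smul, ← map_smul, ← map_add, Ideal.toCotangent_eq]
    simp only [Submodule.coe_add, Submodule.coe_smul, smul_eq_mul, map_mul]
    rw [show x * y - algebraMap k A (Bialgebra.counitAlgHom k A x) * algebraMap k A (Bialgebra.counitAlgHom k A y) -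
      (x * (y - algebraMap k A (Bialgebra.counitAlgHom k A y)) + y * (x - algebraMap k A (Bialgebra.counitAlgHom k A x))) =
      -((x - algebraMap k A (Bialgebra.counitAlgHom k A x)) * (y - algebraMap k A (Bialgebra.counitAlgHom k A y))) by ring,
      pow_two]
    exact neg_mem (Ideal.mul_mem_mul (sub_counit_mem k A x) (sub_counit_mem k A y))

/-- The two cotangent spaces at the unit agree. -/
theorem nonempty_cot_equiv :
    Nonempty (HopfOmega.Cot k A ≃ₗ[k] (RingHom.ker (Bialgebra.counitAlgHom k A)).Cotangent) := by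
  set I := RingHom.ker (Bialgebra.counitAlgHom k A)
  let F : HopfOmega.Cot k A →ₗ[A] I.Cotangent := (HopfOmega.augSub k A).liftQ (cotDer k A).liftKaehlerDifferential (by
    intro w hw
    rw [LinearMap.mem_ker]
    refine Submodule.smul_induction_on hw (fun p hp z _ => ?_) (fun a b ha hb => by rw [map_add, ha, hb, add_zero])
    rw [map_smul]
    exact Ideal.Cotangent.smul_eq_zero_of_mem hp _)
  have hF : ∀ a, F (HopfOmega.dCot k A a) = cotClass k A a := fun a =>
    (cotDer k A).liftKaehlerDifferential_comp_D a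
  let G0 : I →ₗ[A] HopfOmega.Cot k A :=
    { toFun := fun x => HopfOmega.dCot k A x
      map_add' := fun x y => map_add (HopfOmega.dCot k A) (x : A) y
      map_smul' := fun p x => by
        show HopfOmega.dCot k A (p * x.1) = p • _
        rw [HopfOmega.dCot_mul, HopfOmega.smul_cot p]
        have : Coalgebra.counit (R := k) (x : A) = 0 := x.2
        rw [this, zero_smul, add_zero] }
  let G : I.Cotangent →ₗ[A] HopfOmega.Cot k A := Ideal.Cotangent.lift G0 (fun x y => by
    show HopfOmega.dCot k A ((x : A) * y) = 0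
    rw [HopfOmega.dCot_mul, show Coalgebra.counit (R := k) (x : A) = 0 from x.2,
      show Coalgebra.counit (R := k) (y : A) = 0 from y.2, zero_smul, zero_smul, add_zero])
  have h1 : ∀ z, F (G z) = z := fun z => by
    obtain ⟨x, rfl⟩ := I.toCotangent_surjective z
    rw [Ideal.Cotangent.lift_toCotangent]
    show F (HopfOmega.dCot k A x) = _
    rw [hF, cotClass_apply]
    congr 1
    ext
    have : Bialgebra.counitAlgHom k A (x : A) = 0 := x.2
    simp [this]
  have h2 : ∀ q, G (F q) = q := by
    intro q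
    obtain ⟨w, rfl⟩ := Submodule.Quotient.mk_surjective _ q
    have hw : w ∈ Submodule.span A (Set.range (KaehlerDifferential.D k A)) :=
      (KaehlerDifferential.span_range_derivation k A).symm ▸ Submodule.mem_top
    induction hw using Submodule.span_induction with
    | mem x hx =>
      obtain ⟨a, rfl⟩ := hx
      show G (F (HopfOmega.dCot k A a)) = HopfOmega.dCot k A a
      rw [hF, cotClass_apply, Ideal.Cotangent.lift_toCotangent]
      show HopfOmega.dCot k A (a - algebraMap k A (Bialgebra.counitAlgHom k A a)) = _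
      rw [map_sub, sub_eq_self]
      simp [HopfOmega.dCot]
    | zero => simp
    | add a b _ _ ha hb => rw [Submodule.Quotient.mk_add, map_add, map_add, ha, hb]
    | smul p a _ ha => rw [Submodule.Quotient.mk_smul, map_smul, map_smul, ha]
  exact ⟨(LinearEquiv.ofLinearMap F G (LinearMap.ext h1) (LinearMap.ext h2)).restrictScalars k⟩

theorem baseChange_kaehler {k K C : Type u} [Field k] [Field K] [Algebra k K] [CommRing C] [Algebra k C]
    [Nontrivial C] [Module.Free C (Ω[C⁄k])] :
    Module.Free (K ⊗[k] C) (Ω[(K ⊗[k] C)⁄K]) ∧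
      Module.finrank (K ⊗[k] C) (Ω[(K ⊗[k] C)⁄K]) = Module.finrank C (Ω[C⁄k]) := by
  let _ : Algebra C (K ⊗[k] C) := Algebra.TensorProduct.rightAlgebra
  let eB := KaehlerDifferential.tensorKaehlerEquiv k K C (K ⊗[k] C)
  exact ⟨.of_equiv eB, by rw [← eB.finrank_eq, Module.finrank_baseChange]⟩

theorem main_abs.{w} {K B : Type u} [Field K] [IsAlgClosed K] [CommRing B] [Algebra K B] [Algebra.FiniteType K B]
    [Nontrivial B] [Module.Free B (Ω[B⁄K])] (H : Type w) [CommRing H] [HopfAlgebra K H] (ε : B ≃ₐ[K] H) (d : ℕ)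
    (hd : Module.finrank B (Ω[B⁄K]) = d) :
    ringKrullDim B ≤ (d : WithBot ℕ∞) ∧ (Algebra.FormallySmooth K B ↔ ringKrullDim B = (d : WithBot ℕ∞)) := by
  refine ⟨dim_le (K := K) d hd, formallySmooth_iff_dim (K := K) d hd ?_⟩
  have : Algebra.FiniteType K H := Algebra.FiniteType.equiv inferInstance ε
  intro M _
  rw [← Ideal.sup_isMaximal_height_eq_ringKrullDim]
  refine WithBot.coe_inj.2 (le_antisymm (le_iSup₂ (f := fun (I : Ideal B) (_ : I.IsMaximal) => I.height) M ‹_›) ?_)
  refine iSup₂_le fun M' hM' => le_of_eq ?_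
  have h1 : (M.comap ε.symm.toRingEquiv).IsMaximal := Ideal.comap_isMaximal_of_surjective _ ε.symm.surjective
  have h2 : (M'.comap ε.symm.toRingEquiv).IsMaximal := Ideal.comap_isMaximal_of_surjective _ ε.symm.surjective
  obtain ⟨ψ, hψ⟩ := HopfRedSq.exists_equiv_comap_eq (k := K) (M.comap ε.symm.toRingEquiv) (M'.comap ε.symm.toRingEquiv)
  let φ : B ≃+* B := ((ε.trans ψ).trans ε.symm).toRingEquiv
  rw [← φ.height_map M']
  congr 1
  ext a
  rw [← Ideal.comap_symm]
  show φ.symm a ∈ M' ↔ a ∈ M
  have h3 := hψ (ε (φ.symm a))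
  change ε.symm (ψ (ε (φ.symm a))) ∈ M ↔ ε.symm (ε (φ.symm a)) ∈ M' at h3
  have e1 : ε.symm (ψ (ε (φ.symm a))) = a := φ.apply_symm_apply a
  rw [e1, ε.symm_apply_apply] at h3
  exact h3.symm

theorem transfer_kaehler {k : Type u} [Field k] {A : Type v} [CommRing A] [Algebra k A] [Nontrivial A]
    [Module.Free A (Ω[A⁄k])] {C : Type u} [CommRing C] [Algebra k C] (e : C ≃ₐ[k] A) :
    Module.Free C (Ω[C⁄k]) ∧ Module.finrank C (Ω[C⁄k]) = Module.finrank A (Ω[A⁄k]) := by
  have : Nontrivial C := e.toEquiv.nontrivial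
  let _ : Algebra A C := e.symm.toRingEquiv.toRingHom.toAlgebra
  have : IsScalarTower k A C := IsScalarTower.of_algebraMap_eq fun r => (e.symm.commutes r).symm
  let eA : A ≃ₐ[A] C := AlgEquiv.ofRingEquiv (f := e.symm.toRingEquiv) (fun _ => rfl)
  have : Algebra.FormallyEtale A C := Algebra.FormallyEtale.of_equiv eA
  let eΩ := KaehlerDifferential.tensorKaehlerEquivOfFormallyEtale k A C
  exact ⟨.of_equiv eΩ, by rw [← eΩ.finrank_eq, Module.finrank_baseChange]⟩

variable [Algebra.FiniteType k A]

theorem finite_cot : Module.Finite k (HopfOmega.Cot k A) := by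
  obtain ⟨S, hS⟩ := (inferInstance : Module.Finite A (HopfOmega.Cot k A)).fg_top
  refine ⟨⟨S, eq_top_iff.2 fun x _ => ?_⟩⟩
  have hx : x ∈ Submodule.span A (S : Set (HopfOmega.Cot k A)) := hS ▸ Submodule.mem_top
  induction hx using Submodule.span_induction with
  | mem x hx => exact Submodule.subset_span hx
  | zero => exact zero_mem _
  | add a b _ _ ha hb => exact add_mem (ha trivial) (hb trivial)
  | smul p a _ ha =>
    rw [HopfOmega.smul_cot]
    exact Submodule.smul_mem _ _ (ha trivial)

set_option backward.isDefEq.respectTransparency false in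
theorem main : ringKrullDim A ≤ (Module.finrank k (RingHom.ker (Bialgebra.counitAlgHom k A)).Cotangent : WithBot ℕ∞) ∧
    (ringKrullDim A = (Module.finrank k (RingHom.ker (Bialgebra.counitAlgHom k A)).Cotangent : WithBot ℕ∞) ↔
      Algebra.FormallySmooth k A) := by
  obtain ⟨ec⟩ := nonempty_cot_equiv k A
  rw [← ec.finrank_eq]
  set d := Module.finrank k (HopfOmega.Cot k A)
  have := finite_cot k A
  have : Nontrivial A := Bialgebra.nontrivial k
  have := HopfOmega.free_kaehler k A
  have hΩ : Module.finrank A (Ω[A⁄k]) = d := by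
    rw [(HopfOmega.omegaEquiv k A).finrank_eq, Module.finrank_baseChange]
  obtain ⟨n, π, hπ⟩ := Algebra.FiniteType.iff_quotient_mvPolynomial''.1 ‹Algebra.FiniteType k A›
  let A₀ := MvPolynomial (Fin n) k ⧸ RingHom.ker π
  let e : A₀ ≃ₐ[k] A := Ideal.quotientKerAlgEquivOfSurjective hπ
  have : Algebra.FiniteType k A₀ := Algebra.FiniteType.equiv inferInstance e.symm
  have : Nontrivial A₀ := e.toEquiv.nontrivial
  obtain ⟨hfree, hΩ₀⟩ := transfer_kaehler e
  let K := AlgebraicClosure k
  obtain ⟨hfreeB, hΩB⟩ := baseChange_kaehler (k := k) (K := K) (C := A₀)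
  have hdim : ringKrullDim (K ⊗[k] A₀) = ringKrullDim A :=
    (DimField.ringKrullDim_tensor k K A₀).trans (ringKrullDim_eq_of_ringEquiv e.toRingEquiv)
  obtain ⟨hle, hiff⟩ := main_abs (K ⊗[k] A) (Algebra.TensorProduct.congr (AlgEquiv.refl (R := K) (A₁ := K)) e) d
    (hΩB.trans (hΩ₀.trans hΩ))
  refine ⟨hdim ▸ hle, ?_⟩
  rw [← hdim, ← hiff]
  constructor
  · intro _
    have : Algebra.FinitePresentation k A₀ := Algebra.FinitePresentation.of_finiteType.1 ‹_›
    have : Algebra.Smooth K (K ⊗[k] A₀) := ⟨‹_›, inferInstance⟩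
    have : Algebra.Smooth k A₀ := Algebra.Smooth.of_smooth_tensorProduct_of_faithfullyFlat K
    exact Algebra.FormallySmooth.of_equiv e
  · intro _
    have : Algebra.FormallySmooth k A₀ := Algebra.FormallySmooth.of_equiv e.symm
    infer_instance

end Groth.Agent.HopfSmDim
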