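import Mathlib
import Groth.Agent.HopfSmDim.Main
import Groth.Agent.HopfCartier.Basic
import Groth.Agent.PlaneForms.Basic

/-!
# The associated graded ring of an algebraic group at the unit, in degrees invertible in the field
-/

universe u v

open MvPolynomial

noncomputable section

namespace Groth.Agent.HopfSmDim

section General

variable {k : Type u} [Field k] {A : Type v} [CommRing A] [Algebra k A] (m : Ideal A) {d : ℕ} (x : Fin d → A)

theorem aeval_mem_pow (hx : ∀ j, x j ∈ m) {n : ℕ} {p : MvPolynomial (Fin d) k} (hp : p.IsHomogeneous n) :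
    aeval x p ∈ m ^ n := by
  rw [p.as_sum, map_sum]
  refine sum_mem fun s hs => ?_
  rw [aeval_monomial]
  refine Ideal.mul_mem_left _ _ ?_
  have he : s.degree = n := by
    have := hp (MvPolynomial.mem_support_iff.1 hs)
    rw [Finsupp.degree_eq_weight_one]
    exact this
  rw [Finsupp.prod, ← he, show s.degree = ∑ j ∈ s.support, s j from rfl, ← Finset.prod_pow_eq_pow_sum]
  exact Ideal.prod_mem_prod fun j _ => Ideal.pow_mem_pow (hx j) _

theorem der_aeval (D : Derivation k A A) (p : MvPolynomial (Fin d) k) :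
    D (aeval x p) = ∑ j, aeval x (pderiv j p) * D (x j) := by
  induction p using MvPolynomial.induction_on with
  | C a => simp
  | add p q hp hq =>
    rw [map_add, map_add, hp, hq, ← Finset.sum_add_distrib]
    exact Finset.sum_congr rfl fun j _ => by rw [map_add, map_add, add_mul]
  | mul_X p i hp =>
    simp only [map_mul, aeval_X, Derivation.leibniz, hp, smul_eq_mul, map_add, pderiv_X, add_mul,
      Finset.sum_add_distrib, Finset.mul_sum]
    congr 1
    · rw [Finset.sum_eq_single i (fun j _ hji => by simp [Pi.single_apply, Ne.symm hji])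
        (fun h => absurd (Finset.mem_univ i) h)]
      simp
    · exact Finset.sum_congr rfl fun j _ => by ring

theorem eq_zero_of_aeval_mem (hx : ∀ j, x j ∈ m) (D : Fin d → Derivation k A A)
    (hD : ∀ i j, D i (x j) - (if i = j then 1 else 0) ∈ m) (hm : ∀ c : k, algebraMap k A c ∈ m → c = 0)
    (n : ℕ) : (n.factorial : k) ≠ 0 → ∀ p : MvPolynomial (Fin d) k, p.IsHomogeneous n →
      aeval x p ∈ m ^ (n + 1) → p = 0 := by
  induction n with
  | zero =>
    intro _ p hp h
    rw [← totalDegree_zero_iff_isHomogeneous, totalDegree_eq_zero_iff_eq_C] at hp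
    rw [hp, aeval_C, zero_add, pow_one] at h
    rw [hp, hm _ h, map_zero]
  | succ n ih =>
    intro hn p hp h
    rw [Nat.factorial_succ, Nat.cast_mul] at hn
    have hpd : ∀ i, pderiv i p = 0 := by
      intro i
      have hpi : (pderiv i p).IsHomogeneous n := hp.pderiv
      refine ih (right_ne_zero_of_mul hn) _ hpi ?_
      have h1 : D i (aeval x p) ∈ m ^ (n + 1) := by
        have hgen : ∀ N : ℕ, ∀ a ∈ m ^ (N + 1), D i a ∈ m ^ N := by
          intro N
          induction N with
          | zero => intro a _; rw [pow_zero, Ideal.one_eq_top]; exact Submodule.mem_top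
          | succ N ihN =>
            intro a ha
            rw [pow_succ] at ha
            refine Submodule.mul_induction_on ha (fun a ha b hb => ?_) (fun a b ha hb => ?_)
            · rw [Derivation.leibniz, smul_eq_mul, smul_eq_mul]
              refine add_mem (Ideal.mul_mem_right _ _ ha) ?_
              rw [mul_comm b, pow_succ]
              exact Ideal.mul_mem_mul (ihN a ha) hb
            · rw [map_add]; exact add_mem ha hb
        exact hgen _ _ h
      have h2 : D i (aeval x p) - aeval x (pderiv i p) ∈ m ^ (n + 1) := by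
        have e : aeval x (pderiv i p) = ∑ j, aeval x (pderiv j p) * (if i = j then 1 else 0 : A) := by
          simp
        rw [der_aeval, e, ← Finset.sum_sub_distrib]
        refine sum_mem fun j _ => ?_
        rw [← mul_sub, pow_succ]
        have hj : (pderiv j p).IsHomogeneous n := hp.pderiv
        exact Ideal.mul_mem_mul (aeval_mem_pow m x hx hj) (hD i j)
      have := sub_mem h1 h2
      rwa [sub_sub_cancel] at this
    have he := hp.sum_X_mul_pderiv
    simp only [hpd, mul_zero, Finset.sum_const_zero] at he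
    have he' : ((n + 1 : ℕ) : k) • p = 0 := by rw [Nat.cast_smul_eq_nsmul k, he]
    exact (smul_eq_zero.1 he').resolve_left (left_ne_zero_of_mul hn)

theorem exists_aeval_add (hx : ∀ j, x j ∈ m) (h1 : ∀ a : A, ∃ c : k, a - algebraMap k A c ∈ m)
    (hgen : ∀ a ∈ m, ∃ c : Fin d → k, a - ∑ j, c j • x j ∈ m ^ 2) (n : ℕ) :
    ∀ a ∈ m ^ n, ∃ p : MvPolynomial (Fin d) k, p.IsHomogeneous n ∧ a - aeval x p ∈ m ^ (n + 1) := by
  induction n with
  | zero =>
    intro a _
    obtain ⟨c, hc⟩ := h1 a
    exact ⟨C c, isHomogeneous_C _ _, by simpa using hc⟩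
  | succ n ih =>
    intro a ha
    rw [pow_succ] at ha
    refine Submodule.mul_induction_on ha (fun a ha b hb => ?_) (fun a b ⟨p, hp, hp'⟩ ⟨q, hq, hq'⟩ => ?_)
    · obtain ⟨p, hp, hp'⟩ := ih a ha
      obtain ⟨c, hc⟩ := hgen b hb
      refine ⟨p * ∑ j, C (c j) * X j, hp.mul (IsHomogeneous.sum _ _ _ fun j _ =>
        (isHomogeneous_C _ _).mul (isHomogeneous_X k j)), ?_⟩
      have e : aeval x (p * ∑ j, C (c j) * X j) = aeval x p * ∑ j, c j • x j := by
        simp [Algebra.smul_def, map_sum]
      rw [e, show a * b - aeval x p * ∑ j, c j • x j =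
        (a - aeval x p) * b + aeval x p * (b - ∑ j, c j • x j) by ring]
      refine add_mem ?_ ?_
      · rw [pow_succ]
        exact Ideal.mul_mem_mul hp' hb
      · rw [show n + 1 + 1 = n + 2 from rfl, pow_add]
        exact Ideal.mul_mem_mul (aeval_mem_pow m x hx hp) hc
    · exact ⟨p + q, hp.add hq, by rw [map_add, add_sub_add_comm]; exact add_mem hp' hq'⟩

theorem finrank_step (hx : ∀ j, x j ∈ m) (h1 : ∀ a : A, ∃ c : k, a - algebraMap k A c ∈ m)
    (hgen : ∀ a ∈ m, ∃ c : Fin d → k, a - ∑ j, c j • x j ∈ m ^ 2) :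
    ∀ n : ℕ, Module.Finite k (A ⧸ m ^ n) ∧ ((∀ p : MvPolynomial (Fin d) k, p.IsHomogeneous n →
      aeval x p ∈ m ^ (n + 1) → p = 0) → Module.finrank k (A ⧸ m ^ (n + 1)) =
        Module.finrank k (A ⧸ m ^ n) + (d + n - 1).choose n) := by
  have key : ∀ n : ℕ, Module.Finite k (A ⧸ m ^ n) → Module.Finite k (A ⧸ m ^ (n + 1)) ∧
      ((∀ p : MvPolynomial (Fin d) k, p.IsHomogeneous n → aeval x p ∈ m ^ (n + 1) → p = 0) →
      Module.finrank k (A ⧸ m ^ (n + 1)) = Module.finrank k (A ⧸ m ^ n) + (d + n - 1).choose n) := by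
    intro n hfin
    obtain ⟨hH, hHd⟩ := PlaneForms.finite_homogeneous_and_finrank (k := k) (σ := Fin d) n
    let G : homogeneousSubmodule (Fin d) k n →ₗ[k] A ⧸ m ^ (n + 1) :=
      (Ideal.Quotient.mkₐ k (m ^ (n + 1))).toLinearMap ∘ₗ (aeval x).toLinearMap ∘ₗ (homogeneousSubmodule (Fin d) k n).subtype
    let F : (A ⧸ m ^ (n + 1)) →ₗ[k] A ⧸ m ^ n :=
      (Ideal.Quotient.factorₐ k (show m ^ (n + 1) ≤ m ^ n from Ideal.pow_le_pow_right n.le_succ)).toLinearMap
    have hF : Function.Surjective F :=
      Ideal.Quotient.factor_surjective (show m ^ (n + 1) ≤ m ^ n from Ideal.pow_le_pow_right n.le_succ)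
    have hker : LinearMap.ker F = LinearMap.range G := by
      ext y
      obtain ⟨a, rfl⟩ := Ideal.Quotient.mk_surjective y
      constructor
      · intro h
        have ha : a ∈ m ^ n := Ideal.Quotient.eq_zero_iff_mem.1 h
        obtain ⟨p, hp, hp'⟩ := exists_aeval_add m x hx h1 hgen n a ha
        exact ⟨⟨p, hp⟩, (Ideal.Quotient.eq.2 hp').symm⟩
      · rintro ⟨⟨p, hp⟩, h⟩
        rw [← h]
        exact Ideal.Quotient.eq_zero_iff_mem.2 (aeval_mem_pow m x hx hp)
    have hkf : Module.Finite k (LinearMap.ker F) := hker ▸ Module.Finite.range G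
    have hfin' : Module.Finite k (A ⧸ m ^ (n + 1)) := by
      have : Module.Finite k ((A ⧸ m ^ (n + 1)) ⧸ LinearMap.ker F) :=
        Module.Finite.equiv (F.quotKerEquivOfSurjective hF).symm
      exact Module.Finite.of_submodule_quotient (LinearMap.ker F)
    refine ⟨hfin', fun hinj => ?_⟩
    have hG : Function.Injective G := by
      rw [injective_iff_map_eq_zero]
      intro p hp
      exact Subtype.ext (hinj p p.2 (Ideal.Quotient.eq_zero_iff_mem.1 hp))
    rw [← LinearMap.finrank_range_add_finrank_ker F, LinearMap.range_eq_top.2 hF, finrank_top, hker,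
      LinearMap.finrank_range_of_inj hG, hHd, Fintype.card_fin]
  intro n
  induction n with
  | zero =>
    have h0 : Module.Finite k (A ⧸ m ^ 0) := by
      have : Subsingleton (A ⧸ m ^ 0) := Ideal.Quotient.subsingleton_iff.2 (by rw [pow_zero, Ideal.one_eq_top])
      infer_instance
    exact ⟨h0, (key 0 h0).2⟩
  | succ n ih => exact ⟨(key n ih.1).1, (key (n + 1) (key n ih.1).1).2⟩

end General

variable (k : Type u) (A : Type v) [Field k] [CommRing A] [HopfAlgebra k A] [Algebra.FiniteType k A]

omit [Algebra.FiniteType k A] in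
/-- Invariant operators commute with left translations. -/
theorem comul_invOp (f : A →ₗ[k] k) (y : A) :
    Coalgebra.comul (R := k) (HopfCartier.invOp f y) = (HopfCartier.invOp f).lTensor A (Coalgebra.comul y) := by
  have h : (Coalgebra.comul (R := k) (A := A)) ∘ₗ (TensorProduct.rid k A).toLinearMap ∘ₗ f.lTensor A =
      ((TensorProduct.rid k A).toLinearMap ∘ₗ f.lTensor A).lTensor A ∘ₗ
        (TensorProduct.assoc k A A A).toLinearMap ∘ₗ (Coalgebra.comul (R := k)).rTensor A := by
    ext a b
    simp only [TensorProduct.AlgebraTensorModule.curry_apply, LinearMap.restrictScalars_self, TensorProduct.curry_apply,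
      LinearMap.comp_apply, LinearEquiv.coe_coe, LinearMap.lTensor_tmul, TensorProduct.rid_tmul, map_smul,
      LinearMap.rTensor_tmul]
    induction Coalgebra.comul (R := k) a using TensorProduct.induction_on with
    | zero => simp
    | tmul u v => simp [TensorProduct.tmul_smul]
    | add u v hu hv => simp only [TensorProduct.add_tmul, map_add, smul_add, hu, hv]
  refine (LinearMap.congr_fun h (Coalgebra.comul y)).trans ?_
  show LinearMap.lTensor A _ (TensorProduct.assoc k A A A _) = _
  rw [Coalgebra.coassoc_apply, ← LinearMap.lTensor_comp_apply]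
  rfl

/-- Coordinates at the unit and dual invariant derivations. -/
theorem exists_frame_inv (d : ℕ) (hd : Module.finrank k (RingHom.ker (Bialgebra.counitAlgHom k A)).Cotangent = d) :
    ∃ (x : Fin d → A) (D : Fin d → Derivation k A A), (∀ j, x j ∈ RingHom.ker (Bialgebra.counitAlgHom k A)) ∧
      (∀ i j, D i (x j) - (if i = j then 1 else 0) ∈ RingHom.ker (Bialgebra.counitAlgHom k A)) ∧
      (∀ a ∈ RingHom.ker (Bialgebra.counitAlgHom k A), ∃ c : Fin d → k,
        a - ∑ j, c j • x j ∈ RingHom.ker (Bialgebra.counitAlgHom k A) ^ 2) ∧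
      ∀ i y, Coalgebra.comul (R := k) (D i y) = (D i).toLinearMap.lTensor A (Coalgebra.comul y) := by
  subst hd
  set I := RingHom.ker (Bialgebra.counitAlgHom k A) with hI
  obtain ⟨ec⟩ := nonempty_cot_equiv k A
  have := finite_cot k A
  have : Module.Finite k I.Cotangent := Module.Finite.equiv ec
  let b := Module.finBasis k I.Cotangent
  choose x hx using fun j => I.toCotangent_surjective (b j)
  have hsmul : ∀ (a : A) (z : I.Cotangent), a • z = Bialgebra.counitAlgHom k A a • z := fun a z => by
    rw [← algebraMap_smul A (Bialgebra.counitAlgHom k A a) z, ← sub_eq_zero, ← sub_smul]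
    exact Ideal.Cotangent.smul_eq_zero_of_mem (sub_counit_mem k A a) z
  let δ : Fin (Module.finrank k I.Cotangent) → A →ₗ[k] k := fun i => b.coord i ∘ₗ cotClass k A
  have hδ : ∀ i a a', δ i (a * a') =
      Coalgebra.counit (R := k) a * δ i a' + Coalgebra.counit (R := k) a' * δ i a := by
    intro i a a'
    show b.coord i (cotDer k A (a * a')) = _
    rw [Derivation.leibniz, hsmul a, hsmul a', map_add, map_smul, map_smul]
    rfl
  let D : Fin (Module.finrank k I.Cotangent) → Derivation k A A := fun i => Derivation.mk' (HopfCartier.invOp (δ i))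
    (fun a a' => by rw [HopfCartier.invOp_mul _ (hδ i)]; rfl)
  have hD : ∀ i j, D i (x j) - (if i = j then 1 else 0) ∈ I := by
    intro i j
    refine RingHom.mem_ker.2 ?_
    rw [map_sub]
    have e : Bialgebra.counitAlgHom k A (D i (x j)) = if i = j then 1 else 0 := by
      show Coalgebra.counit (R := k) (HopfCartier.invOp (δ i) (x j : A)) = _
      rw [HopfCartier.counit_invOp]
      show b.coord i (cotClass k A (x j : A)) = _
      rw [cotClass_apply]
      have : (⟨(x j : A) - algebraMap k A (Bialgebra.counitAlgHom k A (x j : A)), sub_counit_mem k A _⟩ : I) = x j := by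
        ext
        simp [show Bialgebra.counitAlgHom k A (x j : A) = 0 from (x j).2]
      rw [this, hx j, Module.Basis.coord_apply, Module.Basis.repr_self, Finsupp.single_apply]
      simp [eq_comm]
    rw [e]
    split_ifs <;> simp
  refine ⟨fun j => (x j : A), D, fun j => (x j).2, hD, ?_, fun i y => comul_invOp k A (δ i) y⟩
  intro a ha
  refine ⟨fun j => b.repr (I.toCotangent ⟨a, ha⟩) j, ?_⟩
  have h0 : I.toCotangent (⟨a, ha⟩ - ∑ j, (b.repr (I.toCotangent ⟨a, ha⟩) j) • x j) = 0 := by
    rw [map_sub, map_sum]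
    simp only [LinearMap.map_smul_of_tower, hx]
    rw [b.sum_repr, sub_self]
  rw [Ideal.toCotangent_eq_zero] at h0
  simpa using h0

/-- Coordinates at the unit and dual invariant derivations. -/
theorem exists_frame (d : ℕ) (hd : Module.finrank k (RingHom.ker (Bialgebra.counitAlgHom k A)).Cotangent = d) :
    ∃ (x : Fin d → A) (D : Fin d → Derivation k A A), (∀ j, x j ∈ RingHom.ker (Bialgebra.counitAlgHom k A)) ∧
      (∀ i j, D i (x j) - (if i = j then 1 else 0) ∈ RingHom.ker (Bialgebra.counitAlgHom k A)) ∧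
      ∀ a ∈ RingHom.ker (Bialgebra.counitAlgHom k A), ∃ c : Fin d → k,
        a - ∑ j, c j • x j ∈ RingHom.ker (Bialgebra.counitAlgHom k A) ^ 2 := by
  obtain ⟨x, D, hx, hD, hgen, -⟩ := exists_frame_inv k A d hd
  exact ⟨x, D, hx, hD, hgen⟩

theorem finrank_quotient_pow_succ (n : ℕ) (hn : (n.factorial : k) ≠ 0) :
    Module.finrank k (A ⧸ RingHom.ker (Bialgebra.counitAlgHom k A) ^ (n + 1)) =
      Module.finrank k (A ⧸ RingHom.ker (Bialgebra.counitAlgHom k A) ^ n) +
        Nat.choose (Module.finrank k (RingHom.ker (Bialgebra.counitAlgHom k A)).Cotangent + n - 1) n := by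
  obtain ⟨x, D, hx, hD, hgen⟩ := exists_frame k A _ rfl
  exact (finrank_step _ x hx (fun a => ⟨_, sub_counit_mem k A a⟩) hgen n).2
    (eq_zero_of_aeval_mem _ x hx D hD (fun c hc => by
      have : Bialgebra.counitAlgHom k A (algebraMap k A c) = 0 := hc
      simpa using this) n hn)

end Groth.Agent.HopfSmDim
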