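import Mathlib
import Groth.Agent.HopfSmDim.Graded

/-!
# Invariant derivations in characteristic `p`: closure under `p`-th powers and normal elements
-/

universe u v

open TensorProduct Coalgebra Polynomial

noncomputable section

namespace Groth.Agent.HopfSmDim

variable {k : Type u} [Field k] {A : Type v} [CommRing A]

/-- The Leibniz rule. -/
def IsDer [Algebra k A] (L : A →ₗ[k] A) : Prop := ∀ a b, L (a * b) = L a * b + a * L b

/-- Commutation with left translations. -/
def IsInv [HopfAlgebra k A] (L : A →ₗ[k] A) : Prop := ∀ y, comul (R := k) (L y) = L.lTensor A (comul y)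

section Alg

variable [Algebra k A]

theorem IsDer.leibniz_pow {L : A →ₗ[k] A} (hL : IsDer L) (n : ℕ) (a b : A) :
    (L ^ n) (a * b) = ∑ i ∈ Finset.range (n + 1), (n.choose i : A) * ((L ^ i) a * (L ^ (n - i)) b) := by
  let Xl : Module.End k (A ⊗[k] A) := L.rTensor A
  let Xr : Module.End k (A ⊗[k] A) := L.lTensor A
  have hc : Commute Xl Xr := TensorProduct.ext' fun x y => rfl
  have hn : ∀ m t, LinearMap.mul' k A (((Xl + Xr) ^ m) t) = (L ^ m) (LinearMap.mul' k A t) := by
    intro m
    induction m with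
    | zero => intro t; rfl
    | succ m ih =>
      intro t
      rw [pow_succ' (Xl + Xr), pow_succ' L, Module.End.mul_apply, Module.End.mul_apply, ← ih]
      induction ((Xl + Xr) ^ m) t using TensorProduct.induction_on with
      | zero => simp
      | add u w hu hw => simp only [map_add, hu, hw]
      | tmul u w => simp [Xl, Xr]; exact (hL u w).symm
  have hl : ∀ m (x y : A), (Xl ^ m) (x ⊗ₜ y) = (L ^ m) x ⊗ₜ y := by
    intro m x y
    induction m with
    | zero => rfl
    | succ m ih => rw [pow_succ', pow_succ', Module.End.mul_apply, ih]; rfl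
  have hr : ∀ m (x y : A), (Xr ^ m) (x ⊗ₜ y) = x ⊗ₜ (L ^ m) y := by
    intro m x y
    induction m with
    | zero => rfl
    | succ m ih => rw [pow_succ', pow_succ', Module.End.mul_apply, ih]; rfl
  rw [show a * b = LinearMap.mul' k A (a ⊗ₜ b) from rfl, ← hn, hc.add_pow, LinearMap.sum_apply, map_sum]
  refine Finset.sum_congr rfl fun i _ => ?_
  rw [← Nat.cast_comm, ← nsmul_eq_mul, LinearMap.smul_apply, Module.End.mul_apply, hr, hl, map_nsmul,
    LinearMap.mul'_apply, nsmul_eq_mul]

theorem IsDer.add {L L' : A →ₗ[k] A} (h : IsDer L) (h' : IsDer L') : IsDer (L + L') := fun a b => by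
  simp only [LinearMap.add_apply, h a b, h' a b]; ring

theorem IsDer.smul {L : A →ₗ[k] A} (h : IsDer L) (c : k) : IsDer (c • L) := fun a b => by
  simp only [LinearMap.smul_apply, h a b, smul_add, smul_mul_assoc, mul_smul_comm]

theorem IsDer.zero : IsDer (0 : A →ₗ[k] A) := fun a b => by simp

theorem IsDer.pow_p {L : A →ₗ[k] A} (h : IsDer L) (p : ℕ) [Fact p.Prime] [CharP A p] : IsDer (L ^ p) := by
  intro a b
  have hp : p.Prime := Fact.out
  rw [h.leibniz_pow, Finset.sum_range_succ, Finset.sum_eq_single 0]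
  · simp [add_comm]
  · intro i hi hi0
    rw [show (p.choose i : A) = 0 from (CharP.cast_eq_zero_iff A p _).2
      (hp.dvd_choose_self hi0 (Finset.mem_range.1 hi)), zero_mul]
  · intro h0; exact absurd (Finset.mem_range.2 hp.pos) h0

theorem IsDer.iterate {L : A →ₗ[k] A} (h : IsDer L) (p : ℕ) [Fact p.Prime] [CharP A p] (i : ℕ) : IsDer (L ^ p ^ i) := by
  induction i with
  | zero => simpa using h
  | succ i ih => rw [pow_succ, pow_mul]; exact ih.pow_p p

theorem IsDer.map_one {L : A →ₗ[k] A} (h : IsDer L) : L 1 = 0 := by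
  have := h 1 1
  simpa using this

end Alg

section Hopf

variable [HopfAlgebra k A]

theorem IsInv.add {L L' : A →ₗ[k] A} (h : IsInv L) (h' : IsInv L') : IsInv (L + L') := fun y => by
  rw [LinearMap.lTensor_add, LinearMap.add_apply, map_add, h y, h' y]; rfl

theorem IsInv.smul {L : A →ₗ[k] A} (h : IsInv L) (c : k) : IsInv (c • L) := fun y => by
  rw [LinearMap.lTensor_smul, LinearMap.smul_apply, map_smul, h y]; rfl

theorem IsInv.zero : IsInv (0 : A →ₗ[k] A) := fun y => by simp

theorem IsInv.one : IsInv (1 : A →ₗ[k] A) := fun y => by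
  rw [Module.End.one_eq_id, LinearMap.lTensor_id]; rfl

theorem IsInv.mul {L L' : A →ₗ[k] A} (h : IsInv L) (h' : IsInv L') : IsInv (L * L') := fun y => by
  rw [Module.End.mul_apply, h, h', ← LinearMap.lTensor_comp_apply]; rfl

theorem IsInv.pow {L : A →ₗ[k] A} (h : IsInv L) (n : ℕ) : IsInv (L ^ n) := by
  induction n with
  | zero => exact .one
  | succ n ih => rw [pow_succ]; exact ih.mul h

theorem IsInv.aeval {L : A →ₗ[k] A} (h : IsInv L) (q : k[X]) : IsInv (Polynomial.aeval L q) := by
  induction q using Polynomial.induction_on' with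
  | add q r hq hr => rw [map_add]; exact hq.add hr
  | monomial n c => rw [Polynomial.aeval_monomial, ← Algebra.smul_def]; exact (h.pow n).smul c

theorem IsInv.eq_invOp {L : A →ₗ[k] A} (h : IsInv L) : L = HopfCartier.invOp (counit ∘ₗ L) := by
  ext y
  show L y = TensorProduct.rid k A ((counit ∘ₗ L).lTensor A (comul y))
  rw [LinearMap.lTensor_comp_apply, ← h, Coalgebra.lTensor_counit_comul]
  simp

theorem IsInv.eq_zero {L : A →ₗ[k] A} (h : IsInv L) (h0 : ∀ y, counit (R := k) (L y) = 0) : L = 0 := by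
  rw [h.eq_invOp, show (counit ∘ₗ L : A →ₗ[k] k) = 0 from LinearMap.ext h0]
  ext y
  simp [HopfCartier.invOp]

end Hopf

theorem exists_root_ne_zero [IsAlgClosed k] (p : ℕ) (hp : 1 < p) (n : ℕ) (b : ℕ → k)
    (hb : ∃ l ≤ n, b l ≠ 0) : ∃ t : k, t ≠ 0 ∧ ∑ l ∈ Finset.range (n + 1), b l * t ^ p ^ (n + 1 - l) = t := by
  let g : k[X] := ∑ l ∈ Finset.range (n + 1), C (b l) * X ^ (p ^ (n + 1 - l) - 1) - 1
  have h2 : ∀ l ≤ n, 2 ≤ p ^ (n + 1 - l) := fun l hl =>
    le_trans (show 2 ≤ p ^ 1 by rw [pow_one]; omega) (Nat.pow_le_pow_right (by omega) (by omega))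
  obtain ⟨l₀, hl₀, hb₀⟩ := hb
  have hcoef : g.coeff (p ^ (n + 1 - l₀) - 1) = b l₀ := by
    have := h2 l₀ hl₀
    simp only [g, coeff_sub, finsetSum_coeff, coeff_C_mul, coeff_X_pow, coeff_one]
    rw [Finset.sum_eq_single l₀, if_pos rfl, if_neg (by omega), mul_one, sub_zero]
    · intro l hl hne
      rw [if_neg, mul_zero]
      intro he
      have hl' := Finset.mem_range.1 hl
      have := h2 l (by omega)
      have e : p ^ (n + 1 - l₀) = p ^ (n + 1 - l) := by omega
      have := Nat.pow_right_injective hp e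
      omega
    · intro h; exact absurd (Finset.mem_range.2 (by omega)) h
  have hdeg : g.degree ≠ 0 := by
    intro h
    have h1 : g.coeff (p ^ (n + 1 - l₀) - 1) = 0 := coeff_eq_zero_of_degree_lt (by
      rw [h]; have := h2 l₀ hl₀; exact_mod_cast (show 0 < p ^ (n + 1 - l₀) - 1 by omega))
    exact hb₀ (hcoef ▸ h1)
  obtain ⟨t, ht⟩ := IsAlgClosed.exists_root g hdeg
  simp only [g, IsRoot.def, eval_sub, eval_finsetSum, eval_mul, eval_C, eval_pow, eval_X, eval_one, sub_eq_zero] at ht
  refine ⟨t, fun h0 => ?_, ?_⟩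
  · rw [h0, Finset.sum_eq_zero fun l hl => ?_] at ht
    · exact zero_ne_one ht
    · have := h2 l (Nat.lt_succ_iff.1 (Finset.mem_range.1 hl))
      rw [zero_pow (by omega), mul_zero]
  · conv_rhs => rw [← one_mul t, ← ht, Finset.sum_mul]
    refine Finset.sum_congr rfl fun l hl => ?_
    have := h2 l (Nat.lt_succ_iff.1 (Finset.mem_range.1 hl))
    rw [mul_assoc, ← pow_succ, show p ^ (n + 1 - l) - 1 + 1 = p ^ (n + 1 - l) by omega]

/-- A nonzero combination of iterated `p`-th powers which is killed or fixed by the `p`-th power. -/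
theorem exists_normal [IsAlgClosed k] [Algebra k A] [Module.Finite k A] (p : ℕ) [Fact p.Prime] [CharP k p]
    (L : A →ₗ[k] A) (hL : L ≠ 0) :
    ∃ (n : ℕ) (c : ℕ → k), (∑ i ∈ Finset.range n, c i • L ^ p ^ i) ≠ 0 ∧
      ((∑ i ∈ Finset.range n, c i • L ^ p ^ i) ^ p = 0 ∨
        (∑ i ∈ Finset.range n, c i • L ^ p ^ i) ^ p = ∑ i ∈ Finset.range n, c i • L ^ p ^ i) := by
  classical
  have hli : ∀ n, (∀ m < n, L ^ p ^ m ∉ Submodule.span k (Set.range fun i : Fin m => L ^ p ^ (i : ℕ))) →
      LinearIndependent k fun i : Fin n => L ^ p ^ (i : ℕ) := by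
    intro n
    induction n with
    | zero => intro _; exact linearIndependent_empty_type
    | succ n ih =>
      intro h
      rw [linearIndependent_finSucc']
      refine ⟨?_, ?_⟩
      · exact ih fun m hm => h m (hm.trans n.lt_succ_self)
      · exact h n n.lt_succ_self
  have hex : ∃ n, L ^ p ^ n ∈ Submodule.span k (Set.range fun i : Fin n => L ^ p ^ (i : ℕ)) := by
    by_contra h
    push Not at h
    have := (hli (Module.finrank k (Module.End k A) + 1) fun m _ => h m).fintype_card_le_finrank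
    simp at this
  obtain ⟨N, hN, hmin⟩ : ∃ N, L ^ p ^ N ∈ Submodule.span k (Set.range fun i : Fin N => L ^ p ^ (i : ℕ)) ∧
      ∀ m < N, L ^ p ^ m ∉ Submodule.span k (Set.range fun i : Fin m => L ^ p ^ (i : ℕ)) :=
    ⟨Nat.find hex, Nat.find_spec hex, fun m hm => Nat.find_min hex hm⟩
  obtain ⟨n, rfl⟩ : ∃ n, N = n + 1 := by
    cases N with
    | zero =>
      have h0 : Submodule.span k (Set.range fun i : Fin 0 => L ^ p ^ (i : ℕ)) = ⊥ := by simp
      rw [h0, Submodule.mem_bot, pow_zero, pow_one] at hN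
      exact absurd hN hL
    | succ n => exact ⟨n, rfl⟩
  have hind := hli (n + 1) hmin
  obtain ⟨a', ha'⟩ := (Submodule.mem_span_range_iff_exists_fun k).1 hN
  let a : ℕ → k := fun l => if h : l < n + 1 then a' ⟨l, h⟩ else 0
  have ha : ∑ l ∈ Finset.range (n + 1), a l • L ^ p ^ l = L ^ p ^ (n + 1) := by
    rw [← ha', ← Fin.sum_univ_eq_sum_range (fun l => a l • L ^ p ^ l)]
    refine Finset.sum_congr rfl fun i _ => ?_
    show a i • L ^ p ^ (i : ℕ) = _
    rw [show a i = a' i from dif_pos i.2]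
  by_cases h0 : ∀ l ≤ n, a l = 0
  · refine ⟨n + 1, fun i => if i = n then 1 else 0, ?_, Or.inl ?_⟩
    all_goals simp only [ite_smul, one_smul, zero_smul, Finset.sum_ite_eq', Finset.mem_range, Nat.lt_succ_self, if_true]
    · exact hind.ne_zero ⟨n, n.lt_succ_self⟩
    · rw [← pow_mul, ← pow_succ, ← ha]
      exact Finset.sum_eq_zero fun l hl => by rw [h0 l (Nat.lt_succ_iff.1 (Finset.mem_range.1 hl)), zero_smul]
  push Not at h0
  let b : ℕ → k := fun l => a l ^ p ^ (n - l)
  obtain ⟨t, ht0, ht⟩ := exists_root_ne_zero p (Fact.out : p.Prime).one_lt n b (by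
    obtain ⟨l, hl, hl'⟩ := h0
    exact ⟨l, hl, pow_ne_zero _ hl'⟩)
  let c : ℕ → k := fun i => ∑ l ∈ Finset.range (i + 1), a l ^ p ^ (i - l) * t ^ p ^ (i + 1 - l)
  have hcn : c n = t := ht
  have hcs : ∀ i, c (i + 1) = c i ^ p + a (i + 1) * t ^ p := by
    intro i
    simp only [c]
    rw [Finset.sum_range_succ, sum_pow_char]
    congr 1
    · refine Finset.sum_congr rfl fun l hl => ?_
      have := Finset.mem_range.1 hl
      rw [mul_pow, ← pow_mul, ← pow_mul, ← pow_succ, ← pow_succ, show i + 1 - l = i - l + 1 by omega,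
        show i + 1 + 1 - l = i - l + 1 + 1 by omega]
    · simp
  have hc0 : c 0 = a 0 * t ^ p := by simp [c]
  refine ⟨n + 1, c, ?_, Or.inr ?_⟩
  · intro h
    rw [← Fin.sum_univ_eq_sum_range (fun i => c i • L ^ p ^ i)] at h
    exact ht0 (hcn ▸ Fintype.linearIndependent_iff.1 hind (fun i => c i) h ⟨n, n.lt_succ_self⟩)
  · have e : ∀ f : ℕ → k, (∑ i ∈ Finset.range (n + 1), f i • L ^ p ^ i) =
        Polynomial.aeval L (∑ i ∈ Finset.range (n + 1), f i • (X : k[X]) ^ p ^ i) := fun f => by simp [map_sum]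
    rw [e, ← map_pow, sum_pow_char]
    simp only [_root_.smul_pow, ← pow_mul, ← pow_succ, map_sum, map_smul, map_pow, Polynomial.aeval_X]
    rw [Finset.sum_range_succ, hcn, ← ha, Finset.smul_sum]
    simp only [smul_smul]
    rw [Finset.sum_range_succ' (fun l => (t ^ p * a l) • L ^ p ^ l),
      Finset.sum_range_succ' (fun l => c l • L ^ p ^ l), hc0, ← add_assoc, ← Finset.sum_add_distrib, mul_comm (t ^ p)]
    congr 1
    refine Finset.sum_congr rfl fun i _ => ?_
    rw [hcs, add_smul, mul_comm (t ^ p)]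

end Groth.Agent.HopfSmDim
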