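import Groth.Agent.HopfSmDim.Versch
import Mathlib

/-! Multiplicative finite group schemes over a field: the Verschiebung is bijective. -/

set_option autoImplicit false

open TensorProduct

universe u v

namespace Groth.Agent.VerschComp

section PowInd

variable {k : Type u} [Field k] (p : ℕ) [Fact p.Prime] [CharP k p] {D : Type v} [CommRing D] [Algebra k D]

theorem linearIndependent_pow_of_etale [Algebra.Etale k D] {ι : Type*} [Fintype ι] (b : Module.Basis ι k D) :
    LinearIndependent k fun i => b i ^ p := by
  classical
  let K := AlgebraicClosure k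
  haveI : IsReduced (K ⊗[k] D) := Algebra.FormallyUnramified.isReduced_of_field K (K ⊗[k] D)
  rcases subsingleton_or_nontrivial D with h | h
  · haveI : IsEmpty ι := ⟨fun i => b.ne_zero i (Subsingleton.elim _ _)⟩
    exact linearIndependent_empty_type
  haveI : CharP K p := charP_of_injective_algebraMap (algebraMap k K).injective p
  haveI : Nontrivial (K ⊗[k] D) := (Algebra.TensorProduct.includeRight_injective (A := K) (B := D)
    (algebraMap k K).injective).nontrivial
  haveI : CharP (K ⊗[k] D) p := charP_of_injective_algebraMap (algebraMap K (K ⊗[k] D)).injective p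
  rw [Fintype.linearIndependent_iff]
  intro c hc i
  choose d hd using fun i => IsAlgClosed.exists_pow_nat_eq (k := K) (algebraMap k K (c i)) (Fact.out : p.Prime).pos
  let y : K ⊗[k] D := ∑ i, d i ⊗ₜ[k] b i
  have h1 : y ^ p = 0 := by
    rw [show y ^ p = ∑ i, (d i ⊗ₜ[k] b i) ^ p from sum_pow_char _ _ _,
      ← map_zero (Algebra.TensorProduct.includeRight : D →ₐ[k] K ⊗[k] D), ← hc, map_sum]
    refine Finset.sum_congr rfl fun i _ => ?_
    rw [Algebra.TensorProduct.tmul_pow, hd, Algebra.algebraMap_eq_smul_one, TensorProduct.smul_tmul]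
    rfl
  have h2 : y = 0 := (IsNilpotent.eq_zero ⟨p, h1⟩)
  have h3 := congrArg (fun z => (Algebra.TensorProduct.basis K b).repr z i) h2
  simp [y, Algebra.TensorProduct.basis_repr_tmul, Finsupp.single_apply] at h3
  have : algebraMap k K (c i) = 0 := by rw [← hd, h3, zero_pow (Fact.out : p.Prime).ne_zero]
  exact (algebraMap k K).injective (this.trans (map_zero _).symm)

theorem etale_of_linearIndependent_pow [FiniteDimensional k D] {ι : Type*} [Fintype ι] (b : Module.Basis ι k D)
    (h : LinearIndependent k fun i => b i ^ p) : Algebra.Etale k D := by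
  classical
  let K := AlgebraicClosure k
  let X := K ⊗[k] D
  rcases subsingleton_or_nontrivial D with hD | hD
  · haveI : Algebra.FormallyUnramified k D := ⟨Module.subsingleton D _⟩
    haveI : Module.FinitePresentation k D := Module.finitePresentation_of_finite k D
    exact Algebra.Etale.of_formallyUnramified_of_flat
  haveI : CharP K p := charP_of_injective_algebraMap (algebraMap k K).injective p
  haveI : Nontrivial X := (Algebra.TensorProduct.includeRight_injective (A := K) (B := D)
    (algebraMap k K).injective).nontrivial
  haveI : CharP X p := charP_of_injective_algebraMap (algebraMap K X).injective p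
  let bK := Algebra.TensorProduct.basis K b
  have hLI : LinearIndependent K fun i => (1 : K) ⊗ₜ[k] (b i ^ p) := by
    let b' := basisOfLinearIndependentOfCardEqFinrank' _ h (Module.finrank_eq_card_basis b).symm
    have : (fun i => (1 : K) ⊗ₜ[k] (b i ^ p)) = Algebra.TensorProduct.basis K b' :=
      funext fun i => by simp [b', Algebra.TensorProduct.basis_apply]
    rw [this]
    exact (Algebra.TensorProduct.basis K b').linearIndependent
  haveI : IsReduced X := by
    refine (isReduced_iff_pow_one_lt p (Fact.out : p.Prime).one_lt).2 fun x hx => ?_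
    rw [← bK.sum_repr x, sum_pow_char] at hx
    have h0 : ∀ i, bK.repr x i ^ p = 0 := Fintype.linearIndependent_iff.1 hLI _ (by
      refine Eq.trans (Finset.sum_congr rfl fun i _ => ?_) hx
      rw [smul_pow, Algebra.TensorProduct.basis_apply, Algebra.TensorProduct.tmul_pow, one_pow])
    rw [← bK.sum_repr x]
    exact Finset.sum_eq_zero fun i _ => by rw [eq_zero_of_pow_eq_zero (h0 i), zero_smul]
  haveI : IsArtinianRing X := IsArtinianRing.of_finite K X
  haveI : Algebra.FormallyUnramified K X := by
    have hb : ∀ m : MaximalSpectrum X, Function.Bijective (algebraMap K (X ⧸ m.asIdeal)) := fun m => by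
      haveI := Ideal.Quotient.field m.asIdeal
      exact IsAlgClosed.algebraMap_bijective_of_isIntegral
    let e : X ≃ₐ[K] ((m : MaximalSpectrum X) → X ⧸ m.asIdeal) :=
      AlgEquiv.ofRingEquiv (f := (IsArtinianRing.equivPi X : X ≃+* _)) fun r => rfl
    let e' : ((m : MaximalSpectrum X) → X ⧸ m.asIdeal) ≃ₐ[K] (MaximalSpectrum X → K) :=
      AlgEquiv.piCongrRight fun m => (AlgEquiv.ofBijective (Algebra.ofId K _) (hb m)).symm
    exact Algebra.FormallyUnramified.of_equiv (e.trans e').symm
  letI : Algebra D X := Algebra.TensorProduct.rightAlgebra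
  haveI : Subsingleton (K ⊗[k] Ω[D⁄k]) :=
    (KaehlerDifferential.tensorKaehlerEquivBase k K D X).subsingleton
  haveI : Algebra.FormallyUnramified k D :=
    ⟨(Module.FaithfullyFlat.tensorProduct_mk_injective (A := k) (B := K) Ω[D⁄k]).subsingleton⟩
  haveI : Module.FinitePresentation k D := Module.finitePresentation_of_finite k D
  exact Algebra.Etale.of_formallyUnramified_of_flat

end PowInd

variable (p : ℕ) [Fact p.Prime] {k : Type u} [Field k] [CharP k p] {A : Type v} [CommRing A] [HopfAlgebra k A]
  [Coalgebra.IsCocomm k A] [FiniteDimensional k A]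

omit [Coalgebra.IsCocomm k A] [FiniteDimensional k A] in
theorem eq_sum_evTw' {n : ℕ} (e : Fin n → A) (x : Fin n → CartDual.D k A) (hex : ∀ a, ∑ i, x i a • e i = a)
    (w : FrobAlg.BaseChange p k A) : w = ∑ i, e i ⊗ₜ[k] Versch.evTw p k A (x i) w := by
  induction w using TensorProduct.induction_on with
  | zero => simp
  | add w w' hw hw' => simp only [map_add, TensorProduct.tmul_add, Finset.sum_add_distrib, ← hw, ← hw']
  | tmul b s =>
    conv_lhs => rw [← hex b, TensorProduct.sum_tmul]
    refine Finset.sum_congr rfl fun i _ => ?_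
    rw [TensorProduct.smul_tmul, Versch.evTw_tmul, Algebra.smul_def]

theorem bijective_verschiebung_iff (v : A →+* FrobAlg.BaseChange p k A) (hv : Versch.IsVerschiebung p k A v) :
    Algebra.Etale k (CartDual.D k A) ↔ Function.Bijective v := by
  classical
  let b := Module.finBasis k A
  let n := Module.finrank k A
  let B : Module.Basis (Fin n) k (CartDual.D k A) := b.dualBasis.map (CartDual.toDual k A).symm
  have hB : ∀ i, B i = WithConv.toConv (b.coord i) := fun i => by
    rw [Module.Basis.map_apply, ← Module.Basis.coe_dualBasis b]; rfl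
  have hex : ∀ a, ∑ i, B i a • b i = a := fun a => by
    simp only [hB]
    exact b.sum_repr a
  let f : Fin n → Module.Dual k A := fun i => (B i ^ p).ofConv
  let L : A →ₗ[k] (Fin n → k) := LinearMap.pi f
  let Φ : (Fin n → k) → FrobAlg.BaseChange p k A := fun c => ∑ i, b i ⊗ₜ[k] FrobAlg.toTwist p k (c i)
  have hΦ : Function.Bijective Φ := by
    refine Function.bijective_iff_has_inverse.2
      ⟨fun w i => (FrobAlg.toTwist p k).symm (Versch.evTw p k A (B i) w), fun c => funext fun j => ?_, fun w => ?_⟩
    · simp only [Φ, map_sum, Versch.evTw_tmul']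
      rw [Finset.sum_eq_single j]
      · simp [hB, CartDual.coe_apply]
      · intro i _ hi
        simp [hB, CartDual.coe_apply, hi.symm, zero_pow (Fact.out : p.Prime).ne_zero]
      · simp
    · simp only [Φ, RingEquiv.apply_symm_apply]
      exact (eq_sum_evTw' p (fun i => b i) (fun i => B i) hex w).symm
  have hv' : ⇑v = Φ ∘ L := funext fun a => by
    rw [eq_sum_evTw' p (fun i => b i) (fun i => B i) hex (v a)]
    refine Finset.sum_congr rfl fun i _ => ?_
    rw [(Versch.isVerschiebung_iff p k A v).1 hv a (B i)]
    rfl
  have hL : Function.Bijective L ↔ LinearIndependent k f := by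
    have hfin : Module.finrank k A = Module.finrank k (Fin n → k) := by simp [n]
    refine ⟨fun h => Fintype.linearIndependent_iff.2 fun c hc j => ?_, fun h => ?_⟩
    · obtain ⟨a, ha⟩ := h.2 (Pi.single j 1)
      have h1 := congrArg (fun g : Module.Dual k A => g a) hc
      simp only [LinearMap.sum_apply, LinearMap.smul_apply, smul_eq_mul, LinearMap.zero_apply] at h1
      rw [Finset.sum_congr rfl fun i _ => show c i * f i a = c i * (Pi.single j (1 : k) : Fin n → k) i by rw [← ha]; rfl] at h1
      simpa [Pi.single_apply] using h1
    · refine ⟨(LinearMap.injective_iff_surjective_of_finrank_eq_finrank hfin).2 ?_, ?_⟩ <;>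
      · rw [← LinearMap.range_eq_top]
        by_contra hne
        obtain ⟨g, hg, hgle⟩ := Submodule.exists_le_ker_of_lt_top _ (lt_of_le_of_ne le_top hne)
        refine hg (LinearMap.pi_ext' fun i => LinearMap.ext_ring ?_)
        have := Fintype.linearIndependent_iff.1 h (fun i => g (Pi.single i 1)) (LinearMap.ext fun a => ?_) i
        · simpa using this
        · have h1 : g (L a) = 0 := hgle ⟨a, rfl⟩
          rw [pi_eq_sum_univ' (L a), map_sum] at h1
          simp only [LinearMap.sum_apply, LinearMap.smul_apply, smul_eq_mul, LinearMap.zero_apply]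
          refine Eq.trans (Finset.sum_congr rfl fun i _ => ?_) h1
          rw [map_smul, smul_eq_mul, mul_comm]
          rfl
  rw [hv', hΦ.of_comp_iff' L, hL,
    show (LinearIndependent k f ↔ LinearIndependent k fun i => B i ^ p) from
      ((CartDual.toDual k A).toLinearMap.linearIndependent_iff (LinearEquiv.ker _))]
  exact ⟨fun h => @linearIndependent_pow_of_etale k _ p _ _ (CartDual.D k A) _ _ h _ _ B,
    fun h => etale_of_linearIndependent_pow p B h⟩

end Groth.Agent.VerschComp
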